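import Groth.Agent.Et18.StrictHenselCover
import Mathlib.AlgebraicGeometry.Morphisms.Integral
import Mathlib.AlgebraicGeometry.Morphisms.Etale

/-!
# Sections with prescribed values on a finite geometric fibre

If the geometric fibre of an integral morphism `Z ⟶ T` of affine schemes is finite, an étale `O ⟶ Z` with a chosen point
over every point of the fibre has a section over an étale neighbourhood of the base point taking the chosen values.
-/

set_option autoImplicit false
set_option linter.style.haveILetI false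
set_option backward.isDefEq.respectTransparency.types false
set_option backward.isDefEq.respectTransparency false

universe u

open CategoryTheory CategoryTheory.Limits AlgebraicGeometry Opposite TensorProduct

namespace Groth.Agent.ConstAct19

open Groth.Agent.Et18 Groth.Agent.Et18.SHensel

/-- Sections of an étale algebra with prescribed values at all lifts. -/
theorem exists_section_eval {R Ω S : Type u} [CommRing R] [Field Ω] [IsAlgClosed Ω] [Algebra R Ω] [CommRing S]
    [Algebra R S] [Algebra.IsIntegral R S] [Finite (S →ₐ[R] Ω)] [Nonempty (S →ₐ[R] Ω)]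
    (C : Type u) [CommRing C] [Algebra S C] [Algebra.Etale S C]
    (W : (S →ₐ[R] Ω) → (C →+* Ω)) (hW : ∀ ζ, (W ζ).comp (algebraMap S C) = ζ.toRingHom) :
    ∃ (N : Nbhd R Ω) (g : C →+* N.A ⊗[R] S),
      g.comp (algebraMap S C) = (Algebra.TensorProduct.includeRight : S →ₐ[R] N.A ⊗[R] S).toRingHom ∧
      ∀ ζ, (N.eval ζ).toRingHom.comp g = W ζ := by
  classical
  cases nonempty_fintype (S →ₐ[R] Ω)
  obtain ⟨n, hn⟩ : ∃ n, Fintype.card (S →ₐ[R] Ω) = n + 1 := ⟨_, (Nat.succ_pred Fintype.card_ne_zero).symm⟩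
  let z : Fin (n + 1) ≃ (S →ₐ[R] Ω) := ((Fintype.equivFin _).trans (finCongr hn)).symm
  have h1 := fun k => exists_section_of_forall_lift C (z k) (W (z k)) (hW _) fun ζ => ⟨W ζ, hW ζ⟩
  choose M g hg hgw using h1
  have h2 := fun k => exists_separate_finset (Finset.univ.erase k) (fun j => z j) (z k) fun j hj =>
    z.injective.ne (Finset.ne_of_mem_erase hj)
  choose D d hd hd1 hd0 using h2
  let M' : Fin (n + 1) → Nbhd R Ω := fun k => (M k).prod (D k)
  obtain ⟨L, φ, E, hE, hc, -⟩ := exists_partition n M' (fun k => ((M k).prodRight (D k)).bc (d k))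
    (fun k => (hd k).map _) fun ζ => ⟨z.symm ζ, by
      rw [Nbhd.Hom.eval_bc]
      have := hd1 (z.symm ζ)
      rwa [Equiv.apply_symm_apply] at this⟩
  have hE0 : ∀ k j, j ≠ k → L.eval (z j) (E k) = 0 := fun k j hjk => by
    obtain ⟨c, hc⟩ := hc k
    rw [hc, map_mul, Nbhd.Hom.eval_bc, Nbhd.Hom.eval_bc, hd0 k j (Finset.mem_erase.2 ⟨hjk, Finset.mem_univ _⟩),
      zero_mul]
  have hE1 : ∀ k, L.eval (z k) (E k) = 1 := fun k => by
    have := congrArg (L.eval (z k)) hE.complete
    rw [map_sum, map_one] at this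
    rwa [Finset.sum_eq_single k (fun j _ hj => hE0 j k (Ne.symm hj)) (by simp)] at this
  let q : L.A ⊗[R] S ≃+* ∀ k, (L.A ⊗[R] S) ⧸ Ideal.span {1 - E k} :=
    RingEquiv.ofBijective (Pi.ringHom fun k => Ideal.Quotient.mk _) hE.bijective_pi
  let h : ∀ k, C →+* L.A ⊗[R] S := fun k =>
    (((M k).prodLeft (D k)).trans (φ k)).bc.toRingHom.comp (g k)
  let G : C →+* L.A ⊗[R] S := q.symm.toRingHom.comp (Pi.ringHom fun k => (Ideal.Quotient.mk _).comp (h k))
  have hG : ∀ k c, Ideal.Quotient.mk (Ideal.span {1 - E k}) (G c) = Ideal.Quotient.mk _ (h k c) := fun k c =>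
    congrFun (q.apply_symm_apply (Pi.ringHom (fun k => (Ideal.Quotient.mk _).comp (h k)) c)) k
  refine ⟨L, G, RingHom.ext fun s => q.injective (funext fun k => ?_), fun ζ => RingHom.ext fun c => ?_⟩
  · show Ideal.Quotient.mk _ (G (algebraMap S C s)) = Ideal.Quotient.mk _ _
    rw [hG]
    show Ideal.Quotient.mk _ (Nbhd.Hom.bc _ (g k (algebraMap S C s))) = _
    rw [show g k (algebraMap S C s) = (1 : (M k).A) ⊗ₜ[R] s from RingHom.congr_fun (hg k) s]
    simp [Nbhd.Hom.bc]
  · obtain ⟨k, rfl⟩ := z.surjective ζ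
    obtain ⟨b, hb⟩ := Ideal.mem_span_singleton.1 (Ideal.Quotient.eq.1 (hG k c))
    show L.eval (z k) (G c) = _
    rw [eq_add_of_sub_eq hb, map_add, map_mul, map_sub, map_one, hE1, sub_self, zero_mul, zero_add]
    exact (Nbhd.Hom.eval_bc _ _ _).trans (RingHom.congr_fun (hgw k) c)

/-- Lifts of geometric points along integral morphisms of affine schemes through a given point. -/
theorem exists_lift_of_point {Z T : Scheme.{u}} [IsAffine Z] [IsAffine T] (φ : Z ⟶ T) [IsIntegralHom φ] {Ω : Type u}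
    [Field Ω] [IsAlgClosed Ω] (y : Spec (CommRingCat.of Ω) ⟶ T) (t : Z) (ht : φ t = y default) :
    ∃ z : Spec (CommRingCat.of Ω) ⟶ Z, z ≫ φ = y ∧ z default = t := by
  let R : Type u := Γ(T, ⊤)
  let B : Type u := Γ(Z, ⊤)
  algebraize [φ.appTop.hom]
  let f : CommRingCat.of R ⟶ CommRingCat.of Ω := Spec.preimage (y ≫ T.isoSpec.hom)
  have hφ : Spec.map φ.appTop = Z.isoSpec.inv ≫ φ ≫ T.isoSpec.hom := by
    rw [← Scheme.isoSpec_inv_naturality_assoc, Iso.inv_hom_id, Category.comp_id]
  have : Algebra.IsIntegral R B := ⟨(IsIntegralHom.SpecMap_iff (φ := φ.appTop)).mp (by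
    rw [hφ]
    infer_instance)⟩
  let Q : PrimeSpectrum B := Z.isoSpec.hom t
  have hbot : ∀ P : PrimeSpectrum Ω, P.asIdeal = ⊥ := fun P => (Ideal.eq_bot_or_top _).resolve_right P.isPrime.ne_top
  have hQ : Q.asIdeal.comap (algebraMap R B) = RingHom.ker f.hom := by
    have e : Spec.map φ.appTop Q = Spec.map f default := by
      rw [hφ, Spec.map_preimage]
      show (Z.isoSpec.inv ≫ φ ≫ T.isoSpec.hom) (Z.isoSpec.hom t) = T.isoSpec.hom (y default)
      rw [← ht, ← Scheme.Hom.comp_apply, Iso.hom_inv_id_assoc]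
      rfl
    refine (congrArg PrimeSpectrum.asIdeal e).trans ?_
    exact congrArg (Ideal.comap f.hom) (hbot _)
  haveI := Q.isPrime
  obtain ⟨w, hw, hwQ⟩ := SHensel.exists_hom_of_prime f.hom Q.asIdeal hQ
  refine ⟨Spec.map (CommRingCat.ofHom w) ≫ Z.isoSpec.inv, ?_, ?_⟩
  · have hn : Z.isoSpec.inv ≫ φ = Spec.map φ.appTop ≫ T.isoSpec.inv := (Scheme.isoSpec_inv_naturality φ).symm
    rw [Category.assoc, hn, ← Category.assoc, ← Spec.map_comp,
      show φ.appTop ≫ CommRingCat.ofHom w = f from CommRingCat.hom_ext hw, Spec.map_preimage, Category.assoc,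
      Iso.hom_inv_id, Category.comp_id]
  · have e : Spec.map (CommRingCat.ofHom w) default = Q := by
      refine PrimeSpectrum.ext ((congrArg (Ideal.comap w) (hbot _)).trans ?_)
      show RingHom.ker w = Q.asIdeal
      by_contra hne
      refine (Ideal.IsIntegral.comap_lt_comap (R := R) (lt_of_le_of_ne hwQ (Ne.symm hne))).ne ?_
      rw [hQ, RingHom.comap_ker, hw]
    show Z.isoSpec.inv (Spec.map (CommRingCat.ofHom w) default) = t
    rw [e]
    exact congrArg (fun k => k t) Z.isoSpec.hom_inv_id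

/-- The scheme form of `exists_section_eval`. -/
theorem exists_affine_section {T Z O : Scheme.{u}} [IsAffine T] [IsAffine Z] [IsAffine O] (φ : Z ⟶ T)
    [IsIntegralHom φ] (q : O ⟶ Z) [Etale q] {Ω : Type u} [Field Ω] [IsAlgClosed Ω]
    (y : Spec (CommRingCat.of Ω) ⟶ T) [Finite {z : Spec (CommRingCat.of Ω) ⟶ Z // z ≫ φ = y}]
    [Nonempty {z : Spec (CommRingCat.of Ω) ⟶ Z // z ≫ φ = y}]
    (w : {z : Spec (CommRingCat.of Ω) ⟶ Z // z ≫ φ = y} → (Spec (CommRingCat.of Ω) ⟶ O))
    (hw : ∀ z, w z ≫ q = z.1) :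
    ∃ (E : Scheme.{u}) (_ : IsAffine E) (p : E ⟶ T) (_ : Etale p) (x : Spec (CommRingCat.of Ω) ⟶ E)
      (hx : x ≫ p = y) (P : Scheme.{u}) (r : P ⟶ Z) (l : P ⟶ E) (sq : IsPullback r l φ p) (h : P ⟶ O),
      h ≫ q = r ∧ ∀ (z : Spec (CommRingCat.of Ω) ⟶ P) (hz : z ≫ l = x),
        z ≫ h = w ⟨z ≫ r, by rw [Category.assoc, sq.w, reassoc_of% hz, hx]⟩ := by
  let R : Type u := Γ(T, ⊤)
  let S : Type u := Γ(Z, ⊤)
  let C : Type u := Γ(O, ⊤)
  let f : CommRingCat.of R ⟶ CommRingCat.of Ω := Spec.preimage (y ≫ T.isoSpec.hom)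
  algebraize [φ.appTop.hom, q.appTop.hom, f.hom]
  have hφ : Spec.map φ.appTop = Z.isoSpec.inv ≫ φ ≫ T.isoSpec.hom := by
    rw [← Scheme.isoSpec_inv_naturality_assoc, Iso.inv_hom_id, Category.comp_id]
  have : Algebra.IsIntegral R S := ⟨(IsIntegralHom.SpecMap_iff (φ := φ.appTop)).mp (by
    rw [hφ]
    infer_instance)⟩
  have : Algebra.Etale S C := by
    have : Etale (Spec.map q.appTop) := by
      rw [show Spec.map q.appTop = O.isoSpec.inv ≫ q ≫ Z.isoSpec.hom by
        rw [← Scheme.isoSpec_inv_naturality_assoc, Iso.inv_hom_id, Category.comp_id]]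
      infer_instance
    exact (HasRingHomProperty.Spec_iff (P := @Etale)).mp this
  let zOf : (S →ₐ[R] Ω) → {z : Spec (CommRingCat.of Ω) ⟶ Z // z ≫ φ = y} := fun ζ =>
    ⟨Spec.map (CommRingCat.ofHom ζ.toRingHom) ≫ Z.isoSpec.inv, by
      rw [Category.assoc, ← Scheme.isoSpec_inv_naturality φ, ← Category.assoc, ← Spec.map_comp,
        show φ.appTop ≫ CommRingCat.ofHom ζ.toRingHom = f from CommRingCat.hom_ext ζ.comp_algebraMap,
        Spec.map_preimage, Category.assoc, Iso.hom_inv_id, Category.comp_id]⟩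
  have hinj : Function.Injective zOf := fun ζ ζ' e => by
    have := Spec.map_injective ((cancel_mono Z.isoSpec.inv).1 (congrArg Subtype.val e))
    exact AlgHom.ext fun s => RingHom.congr_fun (congrArg CommRingCat.Hom.hom this) s
  haveI : Finite (S →ₐ[R] Ω) := Finite.of_injective _ hinj
  haveI : Nonempty (S →ₐ[R] Ω) := by
    obtain ⟨z, hz⟩ := ‹Nonempty {z : Spec (CommRingCat.of Ω) ⟶ Z // z ≫ φ = y}›
    let ζ : CommRingCat.of S ⟶ CommRingCat.of Ω := Spec.preimage (z ≫ Z.isoSpec.hom)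
    have : φ.appTop ≫ ζ = f := Spec.map_injective (by
      rw [Spec.map_comp, Spec.map_preimage, Spec.map_preimage, hφ, Category.assoc, Iso.hom_inv_id_assoc,
        reassoc_of% hz])
    exact ⟨{ ζ.hom with commutes' := fun r => RingHom.congr_fun (congrArg CommRingCat.Hom.hom this) r }⟩
  obtain ⟨N, g, hg, hgw⟩ := exists_section_eval (R := R) (S := S) C
    (fun ζ => (Spec.preimage (w (zOf ζ) ≫ O.isoSpec.hom)).hom) fun ζ =>
      congrArg CommRingCat.Hom.hom (Spec.map_injective (by
        rw [Spec.map_comp, Spec.map_preimage, Category.assoc, Scheme.isoSpec_hom_naturality, reassoc_of% (hw _),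
          Category.assoc, Iso.inv_hom_id, Category.comp_id]) :
        q.appTop ≫ Spec.preimage (w (zOf ζ) ≫ O.isoSpec.hom) = CommRingCat.ofHom ζ.toRingHom)
  let a : CommRingCat.of R ⟶ CommRingCat.of N.A := CommRingCat.ofHom (algebraMap R N.A)
  have : Etale (Spec.map a) := by
    rw [HasRingHomProperty.Spec_iff (P := @Etale)]
    exact RingHom.etale_algebraMap.mpr inferInstance
  let il : CommRingCat.of N.A ⟶ CommRingCat.of (N.A ⊗[R] S) :=
    CommRingCat.ofHom Algebra.TensorProduct.includeLeftRingHom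
  let ir : CommRingCat.of S ⟶ CommRingCat.of (N.A ⊗[R] S) :=
    CommRingCat.ofHom (Algebra.TensorProduct.includeRight : S →ₐ[R] N.A ⊗[R] S).toRingHom
  have sqS : IsPullback (Spec.map ir) (Spec.map il) (Spec.map φ.appTop) (Spec.map a) :=
    isPullback_SpecMap_of_isPushout _ _ _ _ (CommRingCat.isPushout_tensorProduct R N.A S).flip
  have sq : IsPullback (Spec.map ir ≫ Z.isoSpec.inv) (Spec.map il) φ (Spec.map a ≫ T.isoSpec.inv) :=
    sqS.paste_horiz (IsPullback.of_horiz_isIso ⟨(Scheme.isoSpec_inv_naturality φ).symm⟩)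
  refine ⟨Spec (CommRingCat.of N.A), inferInstance, Spec.map a ≫ T.isoSpec.inv, inferInstance,
    Spec.map (CommRingCat.ofHom N.pt.toRingHom), ?_, _, _, _, sq, Spec.map (CommRingCat.ofHom g) ≫ O.isoSpec.inv,
    ?_, fun z hz => ?_⟩
  · rw [← Category.assoc, ← Spec.map_comp, show a ≫ CommRingCat.ofHom N.pt.toRingHom = f from
      CommRingCat.hom_ext N.pt.comp_algebraMap, Spec.map_preimage, Category.assoc, Iso.hom_inv_id, Category.comp_id]
  · rw [Category.assoc, ← Scheme.isoSpec_inv_naturality, ← Category.assoc, ← Spec.map_comp]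
    congr 2
    exact CommRingCat.hom_ext hg
  · obtain ⟨θ, rfl⟩ := Spec.map_surjective z
    have hl : il ≫ θ = CommRingCat.ofHom N.pt.toRingHom := Spec.map_injective (by rw [Spec.map_comp]; exact hz)
    have hl' : ∀ m, θ.hom (m ⊗ₜ[R] (1 : S)) = N.pt m := fun m =>
      RingHom.congr_fun (congrArg CommRingCat.Hom.hom hl) m
    let ζ : S →ₐ[R] Ω :=
      { θ.hom.comp Algebra.TensorProduct.includeRight.toRingHom with
        commutes' := fun r => by
          show θ.hom ((1 : N.A) ⊗ₜ[R] algebraMap R S r) = _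
          rw [Algebra.algebraMap_eq_smul_one r, TensorProduct.tmul_smul, TensorProduct.smul_tmul',
            ← Algebra.algebraMap_eq_smul_one, hl', N.pt.commutes] }
    have hθ : θ.hom = (N.eval ζ).toRingHom := RingHom.ext fun x => by
      induction x using TensorProduct.induction_on with
      | zero => simp
      | add x y hx hy => simp [hx, hy]
      | tmul m s =>
        show θ.hom (m ⊗ₜ s) = N.eval ζ (m ⊗ₜ s)
        rw [Nbhd.eval_tmul, ← hl']
        show _ = θ.hom (m ⊗ₜ 1) * θ.hom ((1 : N.A) ⊗ₜ s)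
        rw [← map_mul, Algebra.TensorProduct.tmul_mul_tmul, mul_one, one_mul]
    rw [← Category.assoc, ← Spec.map_comp,
      show CommRingCat.ofHom g ≫ θ = Spec.preimage (w (zOf ζ) ≫ O.isoSpec.hom) from
        CommRingCat.hom_ext (by
          show θ.hom.comp g = _
          rw [hθ]
          exact hgw ζ),
      Spec.map_preimage, Category.assoc, Iso.hom_inv_id, Category.comp_id]
    refine congrArg w (Subtype.ext ?_)
    show Spec.map (CommRingCat.ofHom ζ.toRingHom) ≫ Z.isoSpec.inv = Spec.map θ ≫ Spec.map ir ≫ Z.isoSpec.inv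
    rw [← Spec.map_comp_assoc]
    rfl

end Groth.Agent.ConstAct19
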