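import Groth.Agent.ConstAct19.InvQuot
import Groth.Agent.ConstAct19.Sect
import Groth.Agent.AlgSpLib.YonCoprod
import Groth.Agent.AlgSpLib.PushEtale
import Mathlib.AlgebraicGeometry.Sites.EtalePoint
import Mathlib.AlgebraicGeometry.Morphisms.FlatMono
import Mathlib.FieldTheory.IsAlgClosed.AlgebraicClosure

/-!
# Invariant maps to algebraic spaces factor through the quotient

Over an affine base, an invariant quotient `q : X ⟶ T` is universal for invariant maps to algebraic spaces: étale locally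
on `T` the map lifts to an affine étale chart with one point over each geometric fibre, where it is invariant.
-/

set_option autoImplicit false
set_option linter.style.haveILetI false
set_option backward.isDefEq.respectTransparency false
set_option backward.isDefEq.respectTransparency.types false

universe u

open CategoryTheory CategoryTheory.Limits AlgebraicGeometry Opposite AlgSp

namespace Groth.Agent.ConstAct19

variable {S : Scheme.{u}} {ι : Type u} [Fintype ι] {X T : Over S} {q : X ⟶ T} {σ : ι → (X ⟶ X)}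

noncomputable local instance inhabitedSpec {K : Type u} [Field K] {S : Scheme.{u}} (t : Spec (CommRingCat.of K) ⟶ S) :
    Inhabited (Over.mk t).left :=
  inferInstanceAs (Inhabited (Spec (CommRingCat.of K)))

/-- Two sections of an étale morphism agree on an open set containing every point where they agree geometrically. -/
theorem exists_open_eq_section {P Q : Scheme.{u}} (pr : Q ⟶ P) [Etale pr] (s₁ s₂ : P ⟶ Q) (h₁ : s₁ ≫ pr = 𝟙 P)
    (h₂ : s₂ ≫ pr = 𝟙 P) :
    ∃ W : P.Opens, W.ι ≫ s₁ = W.ι ≫ s₂ ∧ ∀ {K : Type u} [Field K] (z : Spec (CommRingCat.of K) ⟶ P),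
      z ≫ s₁ = z ≫ s₂ → z default ∈ W := by
  haveI : Etale (s₂ ≫ pr) := h₂ ▸ inferInstance
  haveI : Etale s₂ := Etale.of_comp s₂ pr
  haveI : IsSplitMono s₂ := ⟨⟨⟨pr, h₂⟩⟩⟩
  haveI : IsOpenImmersion s₂ := IsOpenImmersion.of_flat_of_mono s₂
  refine ⟨s₁ ⁻¹ᵁ s₂.opensRange, ?_, fun {K} _ z hz => ⟨z default, (congrArg (fun φ => φ default) hz).symm⟩⟩
  let W := s₁ ⁻¹ᵁ s₂.opensRange
  have hW : Set.range (W.ι ≫ s₁) ⊆ Set.range s₂ := by
    rintro _ ⟨w, rfl⟩
    exact w.2
  have e : IsOpenImmersion.lift s₂ (W.ι ≫ s₁) hW ≫ s₂ = W.ι ≫ s₁ := IsOpenImmersion.lift_fac _ _ _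
  have e' := congrArg (· ≫ pr) e
  simp only [Category.assoc, h₁, h₂, Category.comp_id] at e'
  rw [← e, e']

/-- Factorisations exist étale locally on the quotient. -/
theorem exists_local_factor [IsAffine S] (h : IsInvQuot q σ) {N : Sp S} (hN : IsAlgSpace N)
    (ψ : (yon S).obj X ⟶ N) (hψ : ∀ g, (yon S).map (σ g) ≫ ψ = ψ) {K : Type u} [Field K] [IsAlgClosed K]
    {t : Spec (CommRingCat.of K) ⟶ S} (pt : Over.mk t ⟶ T) :
    ∃ (E : Over S) (e : E ⟶ T) (_ : Etale e.left) (XE : Over S) (x : XE ⟶ X) (k : XE ⟶ E)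
      (_ : IsPullback x.left k.left q.left e.left) (χ : (yon S).obj E ⟶ N),
      (yon S).map k ≫ χ = (yon S).map x ≫ ψ ∧ pt.left default ∈ Set.range e.left := by
  classical
  haveI := h.affine_source
  haveI := h.affine_target
  haveI := h.integral
  haveI := h.surjective
  -- a point over `pt`
  obtain ⟨t₀, ht₀⟩ := q.left.surjective (pt.left default)
  obtain ⟨ξ₀, hξ₀, -⟩ := exists_lift_of_point q.left pt.left t₀ ht₀
  have overW : ∀ z : Spec (CommRingCat.of K) ⟶ X.left, z ≫ q.left = pt.left → z ≫ X.hom = t := fun z hz => by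
    rw [← Over.w q, reassoc_of% hz]
    exact Over.w pt
  let ξ : Over.mk t ⟶ X := Over.homMk ξ₀ (overW _ hξ₀)
  have hξ : ξ ≫ q = pt := Over.OverMorphism.ext hξ₀
  -- the chart
  obtain ⟨U₀, p, hpe, hps⟩ := hN.atlas
  have hp : Representable p := hpe.1
  haveI : Etale (hp.snd ψ).left := hpe.property_snd ψ
  haveI : Surjective (hp.snd ψ).left := hps.property_snd ψ
  obtain ⟨ω, hω⟩ := (hp.snd ψ).left.surjective (ξ₀ default)
  obtain ⟨l₀, hl₀, -⟩ := Scheme.exists_fac_of_etale_of_isSepClosed (hp.snd ψ).left ξ₀ ω hω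
  let l₁ : Over.mk t ⟶ hp.pullback ψ := Over.homMk l₀ (by
    rw [← Over.w (hp.snd ψ), reassoc_of% hl₀]
    exact overW _ hξ₀)
  have hl₁ : l₁ ≫ hp.snd ψ = ξ := Over.OverMorphism.ext hl₀
  obtain ⟨V, hV, hvV, -⟩ := exists_isAffineOpen_mem_and_subset (X := U₀.left)
    (x := (l₁ ≫ hp.fst' ψ).left default) (U := ⊤) trivial
  haveI : IsAffine V.toScheme := hV
  let VO : Over S := Over.mk (V.ι ≫ U₀.hom)
  let iV : VO ⟶ U₀ := Over.homMk V.ι rfl
  haveI : IsOpenImmersion iV.left := inferInstanceAs (IsOpenImmersion V.ι)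
  let a : (yon S).obj VO ⟶ N := (yon S).map iV ≫ p
  have hae : RepWith @Etale a :=
    (RepWith (S := S) @Etale).comp_mem _ _ ((repWith_yon_map_iff (P := @Etale) iV).2 inferInstance) hpe
  have ha : Representable a := hae.1
  let u : Over.mk t ⟶ VO := Over.homMk (IsOpenImmersion.lift V.ι (l₁ ≫ hp.fst' ψ).left (by
      rintro _ ⟨s, rfl⟩
      exact ⟨⟨_, by rw [show s = default from Subsingleton.elim (α := PrimeSpectrum K) s _]; exact hvV⟩, rfl⟩)) (by
    show _ ≫ V.ι ≫ U₀.hom = t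
    rw [IsOpenImmersion.lift_fac_assoc]
    exact Over.w (l₁ ≫ hp.fst' ψ))
  have hu : (yon S).map u ≫ a = (yon S).map ξ ≫ ψ := by
    have e1 : u ≫ iV = l₁ ≫ hp.fst' ψ := Over.OverMorphism.ext (IsOpenImmersion.lift_fac _ _ _)
    show (yon S).map u ≫ (yon S).map iV ≫ p = _
    rw [← Functor.map_comp_assoc, e1, Functor.map_comp_assoc, (hp.isPullback' ψ).w, ← Functor.map_comp_assoc, hl₁]
  haveI : Etale (ha.snd ψ).left := hae.property_snd ψ
  -- all lifts of `pt` carry a point of the chart with value `u`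
  let Lift := {z : Spec (CommRingCat.of K) ⟶ X.left // z ≫ q.left = pt.left}
  have horb : ∀ z : Lift, ∃ g, (Over.homMk z.1 (overW _ z.2) : Over.mk t ⟶ X) = ξ ≫ σ g := fun z =>
    h.orbit K t ξ _ (hξ.trans (Over.OverMorphism.ext z.2.symm))
  let zOf : ι → Lift := fun g => ⟨(ξ ≫ σ g).left, by
    rw [← Over.comp_left, Category.assoc, h.invariant, hξ]⟩
  haveI : Finite Lift := Finite.of_surjective zOf fun z => by
    obtain ⟨g, hg⟩ := horb z
    exact ⟨g, Subtype.ext (congrArg CommaMorphism.left hg).symm⟩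
  haveI : Nonempty Lift := ⟨⟨ξ₀, hξ₀⟩⟩
  choose gz hgz using horb
  have hlift : ∀ g : ι, (yon S).map u ≫ a = (yon S).map (ξ ≫ σ g) ≫ ψ := fun g => by
    rw [Functor.map_comp_assoc, hψ, hu]
  let wq : ι → (Over.mk t ⟶ ha.pullback ψ) := fun g => ha.lift' u (ξ ≫ σ g) (hlift g)
  choose C hC hwC using fun g => exists_isAffineOpen_mem_and_subset (X := (ha.pullback ψ).left)
    (x := (wq g).left default) (U := ⊤) trivial
  haveI : ∀ g, IsAffine (C g).toScheme := hC
  let O : Scheme.{u} := ∐ fun g => (C g).toScheme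
  let jO : O ⟶ (ha.pullback ψ).left := Sigma.desc fun g => (C g).ι
  haveI : Etale jO := IsZariskiLocalAtSource.sigmaDesc fun g => (inferInstance : Etale (C g).ι)
  let wO : Lift → (Spec (CommRingCat.of K) ⟶ O) := fun z =>
    IsOpenImmersion.lift (C (gz z)).ι (wq (gz z)).left (by
      rintro _ ⟨s, rfl⟩
      exact ⟨⟨_, by rw [show s = default from Subsingleton.elim (α := PrimeSpectrum K) s _]; exact (hwC (gz z)).1⟩, rfl⟩) ≫ Sigma.ι (fun g => (C g).toScheme) (gz z)
  have hwO : ∀ z, wO z ≫ jO = (wq (gz z)).left := fun z => by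
    simp [wO, jO]
  obtain ⟨E₀, _, p₀, _, x₀, hx₀, P, r, l, sq, hP, hPr, hPval⟩ :=
    exists_affine_section q.left (jO ≫ (ha.snd ψ).left) pt.left wO fun z => by
      rw [← Category.assoc, hwO, ← Over.comp_left, ha.lift'_snd, ← hgz]
      rfl
  haveI : IsIntegralHom l := MorphismProperty.of_isPullback (P := @IsIntegralHom) sq inferInstance
  haveI : IsAffine P := isAffine_of_isAffineHom l
  let EO : Over S := Over.mk (p₀ ≫ T.hom)
  let e : EO ⟶ T := Over.homMk p₀ rfl
  let PO : Over S := Over.mk (r ≫ X.hom)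
  let xP : PO ⟶ X := Over.homMk r rfl
  let kP : PO ⟶ EO := Over.homMk l (by
    show l ≫ p₀ ≫ T.hom = r ≫ X.hom
    rw [← Over.w q, sq.w_assoc])
  let s : PO ⟶ ha.pullback ψ := Over.homMk (hP ≫ jO) (by
    show _ = r ≫ X.hom
    rw [← Over.w (ha.snd ψ), ← hPr]
    simp only [Category.assoc])
  have hsx : s ≫ ha.snd ψ = xP := Over.OverMorphism.ext (by
    show (hP ≫ jO) ≫ (ha.snd ψ).left = r
    rw [Category.assoc, hPr])
  let b : PO ⟶ VO := s ≫ ha.fst' ψ
  have hba : (yon S).map b ≫ a = (yon S).map xP ≫ ψ := by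
    show (yon S).map (s ≫ ha.fst' ψ) ≫ a = _
    rw [Functor.map_comp_assoc, (ha.isPullback' ψ).w, ← Functor.map_comp_assoc, hsx]
  choose γ hγx hγk using exists_lift_endo h (x := xP) (k := kP) (e := e) sq
  have hγba : ∀ g, (yon S).map (γ g ≫ b) ≫ a = (yon S).map xP ≫ ψ := fun g => by
    rw [Functor.map_comp_assoc, hba, ← Functor.map_comp_assoc, hγx, Functor.map_comp_assoc, hψ]
  -- every point over `x₀` has value `u`
  have hval : ∀ z : Over.mk t ⟶ PO, z.left ≫ l = x₀ → z ≫ b = u := fun z hz => by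
    have hz' : (z.left ≫ r) ≫ q.left = pt.left := by
      rw [Category.assoc, sq.w, reassoc_of% hz, hx₀]
    have e1 : z ≫ s = wq (gz ⟨z.left ≫ r, hz'⟩) := Over.OverMorphism.ext (by
      show z.left ≫ hP ≫ jO = _
      rw [← Category.assoc, hPval z.left hz, hwO])
    show z ≫ s ≫ ha.fst' ψ = u
    rw [← Category.assoc, e1, ha.lift'_fst]
  -- the locus where `b` is invariant
  let ψP := (yon S).map xP ≫ ψ
  haveI : Etale (ha.snd ψP).left := hae.property_snd ψP
  have h2 : (yon S).map b ≫ a = (yon S).map (𝟙 PO) ≫ ψP := by rw [(yon S).map_id, Category.id_comp]; exact hba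
  have h1 : ∀ g, (yon S).map (γ g ≫ b) ≫ a = (yon S).map (𝟙 PO) ≫ ψP := fun g => by
    rw [(yon S).map_id, Category.id_comp]; exact hγba g
  let s₂ : PO ⟶ ha.pullback ψP := ha.lift' b (𝟙 PO) h2
  let s₁ : ι → (PO ⟶ ha.pullback ψP) := fun g => ha.lift' (γ g ≫ b) (𝟙 PO) (h1 g)
  have hW := fun g => exists_open_eq_section (ha.snd ψP).left (s₁ g).left s₂.left
    (congrArg CommaMorphism.left (ha.lift'_snd (γ g ≫ b) (𝟙 PO) (h1 g)))
    (congrArg CommaMorphism.left (ha.lift'_snd b (𝟙 PO) h2))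
  choose W hWeq hWmem using hW
  have hfib : ∀ g (p' : P), l p' = x₀ default → p' ∈ W g := fun g p' hp' => by
    obtain ⟨z, hz, rfl⟩ := exists_lift_of_point l x₀ p' hp'
    refine hWmem g z ?_
    have hzP : z ≫ r ≫ X.hom = t := by
      rw [← Category.assoc]
      exact overW _ (by rw [Category.assoc, sq.w, reassoc_of% hz, hx₀])
    let zO : Over.mk t ⟶ PO := Over.homMk z hzP
    have e1 : zO ≫ γ g ≫ b = zO ≫ b := by
      rw [← Category.assoc, hval (zO ≫ γ g) (by
        show (z ≫ (γ g).left) ≫ kP.left = x₀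
        rw [Category.assoc, ← Over.comp_left, hγk]
        exact hz), hval zO hz]
    have e2 : zO ≫ s₁ g = zO ≫ s₂ := ha.hom_ext'
      (by simp only [s₁, s₂, Category.assoc, ha.lift'_fst]; exact e1)
      (by simp only [s₁, s₂, Category.assoc, ha.lift'_snd])
    exact congrArg CommaMorphism.left e2
  let bad : Set P := ⋃ g, {p' | p' ∉ W g}
  have hbad : IsClosed (l '' bad) := l.isClosedMap _ (isClosed_iUnion_of_finite fun g => (W g).isOpen.isClosed_compl)
  obtain ⟨E', hE', hxE', hE'sub⟩ := exists_isAffineOpen_mem_and_subset (X := E₀) (x := x₀ default)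
    (U := ⟨(l '' bad)ᶜ, hbad.isOpen_compl⟩) (by
      rintro ⟨p', hp', hlp'⟩
      obtain ⟨g, hg⟩ := Set.mem_iUnion.1 hp'
      exact hg (hfib g p' hlp'))
  haveI : IsAffine E'.toScheme := hE'
  let E'O : Over S := Over.mk (E'.ι ≫ p₀ ≫ T.hom)
  let jE : E'O ⟶ EO := Over.homMk E'.ι rfl
  haveI : Etale (jE ≫ e).left := inferInstanceAs (Etale (E'.ι ≫ p₀))
  obtain ⟨P', x', k', sq'⟩ := exists_pullback_over q (jE ≫ e)
  haveI : IsIntegralHom k'.left := MorphismProperty.of_isPullback (P := @IsIntegralHom) sq' inferInstance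
  haveI : IsAffine E'O.left := hE'
  haveI : IsAffine P'.left := isAffine_of_isAffineHom k'.left
  have hm0 : x'.left ≫ q.left = (k'.left ≫ jE.left) ≫ p₀ := by rw [sq'.w, Category.assoc]; rfl
  let m : P' ⟶ PO := Over.homMk (sq.lift x'.left (k'.left ≫ jE.left) hm0) (by
    show _ ≫ r ≫ X.hom = _
    rw [sq.lift_fst_assoc, Over.w x'])
  have hmx : m ≫ xP = x' := Over.OverMorphism.ext (sq.lift_fst _ _ _)
  have hmk : m ≫ kP = k' ≫ jE := Over.OverMorphism.ext (sq.lift_snd _ _ _)
  choose γ' hγ'x hγ'k using exists_lift_endo h sq'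
  have hmγ : ∀ g, γ' g ≫ m = m ≫ γ g := fun g => Over.OverMorphism.ext (sq.hom_ext
    (congrArg CommaMorphism.left (show (γ' g ≫ m) ≫ xP = (m ≫ γ g) ≫ xP by
      rw [Category.assoc, Category.assoc, hmx, hγx, hγ'x, reassoc_of% hmx]))
    (congrArg CommaMorphism.left (show (γ' g ≫ m) ≫ kP = (m ≫ γ g) ≫ kP by
      rw [Category.assoc, Category.assoc, hmk, hγk, hmk, reassoc_of% (hγ'k g)])))
  have hinv : ∀ g, γ' g ≫ m ≫ b = m ≫ b := fun g => by
    have hr : Set.range m.left ⊆ Set.range (W g).ι := by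
      rintro _ ⟨y, rfl⟩
      rw [Scheme.Opens.range_ι]
      by_contra hy
      exact hE'sub (k'.left y).2 ⟨m.left y, Set.mem_iUnion.2 ⟨g, hy⟩,
        congrArg (fun φ => φ.left y) hmk⟩
    have e0 : m ≫ s₁ g = m ≫ s₂ := Over.OverMorphism.ext (by
      show m.left ≫ _ = m.left ≫ _
      rw [← IsOpenImmersion.lift_fac (W g).ι m.left hr, Category.assoc, Category.assoc, hWeq])
    have e1 := congrArg (· ≫ ha.fst' ψP) e0
    simp only [s₁, s₂, Category.assoc, ha.lift'_fst] at e1
    rw [← Category.assoc, hmγ, Category.assoc, e1]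
  -- descend `m ≫ b`
  haveI : IsAffine VO.left := hV
  obtain ⟨hinj, hrange⟩ := invariant_mem_range h sq' γ' hγ'x hγ'k
  have hf : ∀ v, ∃ w, k'.left.appTop w = (m ≫ b).left.appTop v := fun v => hrange _ fun g => by
    show ((m ≫ b).left.appTop ≫ (γ' g).left.appTop) v = _
    rw [← Scheme.Hom.comp_appTop, ← Over.comp_left, hinv]
  choose f hf using hf
  let φ : Γ(VO.left, ⊤) →+* Γ(E'O.left, ⊤) :=
    { toFun := f
      map_one' := hinj (by rw [hf, map_one, map_one])
      map_mul' := fun a b => hinj (by rw [hf, map_mul, map_mul, hf, hf])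
      map_zero' := hinj (by rw [hf, map_zero, map_zero])
      map_add' := fun a b => hinj (by rw [hf, map_add, map_add, hf, hf]) }
  let c₀ : E'O.left ⟶ VO.left := E'O.left.isoSpec.hom ≫ Spec.map (CommRingCat.ofHom φ) ≫ VO.left.isoSpec.inv
  have hc₀ : k'.left ≫ c₀ = (m ≫ b).left := by
    rw [← cancel_mono VO.left.isoSpec.hom]
    simp only [c₀, Category.assoc, Iso.inv_hom_id, Category.comp_id]
    rw [← Scheme.isoSpec_hom_naturality_assoc, ← Spec.map_comp, ← Scheme.isoSpec_hom_naturality]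
    congr 2
    exact CommRingCat.hom_ext (RingHom.ext hf)
  let c : E'O ⟶ VO := Over.homMk c₀ (ext_of_isAffine (CommRingCat.hom_ext (RingHom.ext fun v => hinj (by
    have e1 : k'.left ≫ c₀ ≫ VO.hom = k'.left ≫ E'O.hom := by
      rw [← Category.assoc, hc₀, Over.w (m ≫ b), Over.w k']
    exact congrArg (fun φ => φ.appTop v) e1))))
  refine ⟨E'O, jE ≫ e, inferInstance, P', x', k', sq', (yon S).map c ≫ a, ?_, ⟨⟨x₀ default, hxE'⟩, ?_⟩⟩
  · rw [← Functor.map_comp_assoc, show k' ≫ c = m ≫ b from Over.OverMorphism.ext hc₀, Functor.map_comp_assoc, hba,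
      ← Functor.map_comp_assoc, hmx]
  · show p₀ (x₀ default) = _
    rw [← hx₀]
    rfl

/-- Invariant maps to algebraic spaces factor uniquely through the quotient. -/
theorem existsUnique_factor [IsAffine S] (h : IsInvQuot q σ) {N : Sp S} (hN : IsAlgSpace N)
    (ψ : (yon S).obj X ⟶ N) (hψ : ∀ g, (yon S).map (σ g) ≫ ψ = ψ) :
    ∃! χ : (yon S).obj T ⟶ N, (yon S).map q ≫ χ = ψ := by
  have hloc := fun y : T.left => exists_local_factor h hN ψ hψ
    (Over.homMk (Spec.map (CommRingCat.ofHom (algebraMap (T.left.residueField y) (AlgebraicClosure (T.left.residueField y)))) ≫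
        T.left.fromSpecResidueField y) rfl :
      Over.mk ((Spec.map (CommRingCat.ofHom (algebraMap (T.left.residueField y) (AlgebraicClosure (T.left.residueField y)))) ≫
        T.left.fromSpecResidueField y) ≫ T.hom) ⟶ T)
  choose E e he XE x k sq χ hχ hmem using hloc
  have hC : Sieve.ofArrows E e ∈ AlgSp.J S T := Groth.Agent.AlgSpLib.ofArrows_mem_J e fun y => ⟨y, by
    obtain ⟨w, hw⟩ := hmem y
    exact ⟨w, hw.trans (Scheme.fromSpecResidueField_apply y _)⟩⟩
  have agree : ∀ {W : Over S} {i j : T.left} (u : W ⟶ E i) (v : W ⟶ E j), u ≫ e i = v ≫ e j →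
      (yon S).map u ≫ χ i = (yon S).map v ≫ χ j := by
    intro W i j u v huv
    obtain ⟨P, a, b, sqP⟩ := exists_pullback_over (e i) (e j)
    haveI : Etale a.left := MorphismProperty.of_isPullback (P := @Etale) sqP.flip inferInstance
    obtain ⟨XP, xP, kP, sqX⟩ := exists_pullback_over q (a ≫ e i)
    have hab : a ≫ e i = b ≫ e j := Over.OverMorphism.ext sqP.w
    haveI : Flat (a ≫ e i).left := inferInstanceAs (Flat (a.left ≫ (e i).left))
    have to_chart : ∀ (n : T.left) (c : P ⟶ E n), c ≫ e n = a ≫ e i →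
        (yon S).map kP ≫ (yon S).map c ≫ χ n = (yon S).map xP ≫ ψ := by
      intro n c hc
      have h0 : xP.left ≫ q.left = (kP ≫ c).left ≫ (e n).left := by
        exact congrArg CommaMorphism.left (show xP ≫ q = (kP ≫ c) ≫ e n by
          rw [Category.assoc, hc]; exact Over.OverMorphism.ext sqX.w)
      let d : XP ⟶ XE n := Over.homMk ((sq n).lift xP.left (kP ≫ c).left h0) (by
        rw [← Over.w (x n), (sq n).lift_fst_assoc, Over.w xP])
      have hdx : d ≫ x n = xP := Over.OverMorphism.ext ((sq n).lift_fst _ _ _)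
      have hdk : d ≫ k n = kP ≫ c := Over.OverMorphism.ext ((sq n).lift_snd _ _ _)
      rw [← Functor.map_comp_assoc, ← hdk, Functor.map_comp_assoc, hχ, ← Functor.map_comp_assoc, hdx]
    have key : (yon S).map a ≫ χ i = (yon S).map b ≫ χ j :=
      hom_ext_of_flat h hN sqX ((to_chart i a rfl).trans (to_chart j b hab.symm).symm)
    let w : W ⟶ P := Over.homMk (sqP.lift u.left v.left (congrArg CommaMorphism.left huv)) (by
      rw [← Over.w a, sqP.lift_fst_assoc, Over.w u])
    have hwa : w ≫ a = u := Over.OverMorphism.ext (sqP.lift_fst _ _ _)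
    have hwb : w ≫ b = v := Over.OverMorphism.ext (sqP.lift_snd _ _ _)
    rw [← hwa, ← hwb, Functor.map_comp_assoc, Functor.map_comp_assoc, key]
  have hfac : ∀ {W : Over S} (u : W ⟶ T), Sieve.ofArrows E e u → ∃ (i : T.left) (w : W ⟶ E i), w ≫ e i = u := by
    intro W u hu
    obtain ⟨i, w, rfl⟩ := Sieve.mem_ofArrows_iff .. |>.1 hu
    exact ⟨i, w, rfl⟩
  choose fi fw hfw using @hfac
  obtain ⟨A, hA⟩ := Groth.Agent.AlgSpLib.PushSp.exists_glue_covering hC
    (fun W u hu => (yon S).map (fw u hu) ≫ χ (fi u hu)) fun W W' v u hu => by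
      rw [← Functor.map_comp_assoc]
      exact agree _ _ (by rw [Category.assoc, hfw, hfw])
  refine ⟨A, ?_, fun B hB => ?_⟩
  · refine Groth.Agent.AlgSpLib.eq_of_covering ((AlgSp.J S).pullback_stable q hC) fun W f hf => ?_
    obtain ⟨i, w, hw⟩ := (Sieve.mem_ofArrows_iff ..).1 (show Sieve.ofArrows E e (f ≫ q) from hf)
    have h0 : f.left ≫ q.left = w.left ≫ (e i).left := congrArg CommaMorphism.left hw
    let d : W ⟶ XE i := Over.homMk ((sq i).lift f.left w.left h0) (by
      rw [← Over.w (x i), (sq i).lift_fst_assoc, Over.w f])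
    have hdx : d ≫ x i = f := Over.OverMorphism.ext ((sq i).lift_fst _ _ _)
    have hdk : d ≫ k i = w := Over.OverMorphism.ext ((sq i).lift_snd _ _ _)
    rw [← Functor.map_comp_assoc, hA _ hf, agree _ w (by rw [hfw, hw]), ← hdk, Functor.map_comp_assoc, hχ,
      ← Functor.map_comp_assoc, hdx]
  · have sqT : IsPullback (𝟙 X : X ⟶ X).left q.left q.left (𝟙 T : T ⟶ T).left :=
      IsPullback.of_horiz_isIso ⟨by simp⟩
    refine hom_ext_of_flat h hN sqT ?_
    rw [hB]
    refine (Groth.Agent.AlgSpLib.eq_of_covering ((AlgSp.J S).pullback_stable q hC) fun W f hf => ?_).symm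
    obtain ⟨i, w, hw⟩ := (Sieve.mem_ofArrows_iff ..).1 (show Sieve.ofArrows E e (f ≫ q) from hf)
    have h0 : f.left ≫ q.left = w.left ≫ (e i).left := congrArg CommaMorphism.left hw
    let d : W ⟶ XE i := Over.homMk ((sq i).lift f.left w.left h0) (by
      rw [← Over.w (x i), (sq i).lift_fst_assoc, Over.w f])
    have hdx : d ≫ x i = f := Over.OverMorphism.ext ((sq i).lift_fst _ _ _)
    have hdk : d ≫ k i = w := Over.OverMorphism.ext ((sq i).lift_snd _ _ _)
    rw [← Functor.map_comp_assoc, hA _ hf, agree _ w (by rw [hfw, hw]), ← hdk, Functor.map_comp_assoc, hχ,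
      ← Functor.map_comp_assoc, hdx]

end Groth.Agent.ConstAct19
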