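import Mathlib.RingTheory.Invariant.Basic
import Mathlib.Algebra.Polynomial.GroupRingAction

/-!
# Ring maps to a domain agreeing on invariants

Two ring maps from `A` to a domain which agree on the invariants of a finite group differ by an element of the group.
-/

set_option autoImplicit false

universe u v w

open Polynomial

namespace Groth.Agent.ConstAct19

variable {A : Type u} [CommRing A] {G : Type v} [Group G] [Finite G] [MulSemiringAction G A]
  {K : Type w} [CommRing K] [IsDomain K] {φ φ' : A →+* K}

theorem exists_smul_eq_of_finset (h : ∀ a : A, (∀ g : G, g • a = a) → φ a = φ' a) (n : ℕ) (a : Fin n → A) :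
    ∃ g : G, ∀ i, φ' (a i) = φ (g • a i) := by
  cases nonempty_fintype G
  let b : A[X] := ∑ i : Fin n, C (a i) * X ^ (i : ℕ)
  let Φ : A[X] →+* K[X] := mapRingHom φ
  let Φ' : A[X] →+* K[X] := mapRingHom φ'
  let F := MulSemiringAction.charpoly G b
  have hF : F.map Φ = F.map Φ' := by
    refine Polynomial.ext fun m => Polynomial.ext fun j => ?_
    simp only [Φ, Φ', coeff_map, coe_mapRingHom]
    refine h _ fun g => ?_
    rw [← Polynomial.coeff_smul g]
    exact congrArg (fun q : A[X] => q.coeff j) (MulSemiringAction.smul_coeff_charpoly b m g)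
  have h0 : (F.map Φ).eval (Φ' b) = 0 := by
    rw [hF, Polynomial.eval_map, Polynomial.eval₂_at_apply]
    rw [MulSemiringAction.eval_charpoly, map_zero]
  rw [show F = ∏ g : G, (X - C (g • b)) from rfl, Polynomial.map_prod, Polynomial.eval_prod,
    Finset.prod_eq_zero_iff] at h0
  obtain ⟨g, -, hg⟩ := h0
  rw [Polynomial.map_sub, Polynomial.map_X, Polynomial.map_C, eval_sub, eval_X, eval_C, sub_eq_zero] at hg
  refine ⟨g, fun i => ?_⟩
  have hi := congrArg (fun q : K[X] => q.coeff (i : ℕ)) hg
  simp only [Φ, Φ', coe_mapRingHom, coeff_map, Polynomial.coeff_smul] at hi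
  have e : b.coeff (i : ℕ) = a i := by
    simp [b, finsetSum_coeff, coeff_C_mul, coeff_X_pow, Fin.val_inj]
  rwa [e] at hi

/-- Two maps to a domain agreeing on invariants differ by a group element. -/
theorem exists_smul_eq (h : ∀ a : A, (∀ g : G, g • a = a) → φ a = φ' a) : ∃ g : G, ∀ a, φ' a = φ (g • a) := by
  cases nonempty_fintype G
  by_contra hne
  simp only [not_exists, not_forall] at hne
  choose a ha using hne
  obtain ⟨g, hg⟩ := exists_smul_eq_of_finset h _ (fun i => a ((Fintype.equivFin G).symm i))
  exact ha g (by simpa using hg (Fintype.equivFin G g))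

end Groth.Agent.ConstAct19
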