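import Groth.Agent.ConstAct19.UnitIso
import Groth.Agent.ConstAct19.Orbit
import Groth.Agent.Stk19.AlgSt.PointsTop
import Groth.Agent.Stk19.AlgSt.FpAlg
import Groth.Agent.Stk19b.FlatQuot.Main
import Groth.Agent.Stk19.AlgSt.Mono
import Mathlib.RingTheory.Invariant.Basic

/-! `[Spec A/G] ⟶ Spec A^G` is a universal homeomorphism. -/

set_option autoImplicit false
set_option linter.style.haveILetI false
set_option backward.isDefEq.respectTransparency false
set_option backward.isDefEq.respectTransparency.types false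

universe u

open CategoryTheory CategoryTheory.Limits AlgebraicGeometry MonoidalCategory CartesianMonoidalCategory MonObj Opposite
open FibCat Groth.Agent.Stk19 Groth.Agent.Stk19b Groth.Agent.Stk19b.QuotTriv

namespace Groth.Agent.ConstAct19

section SetTarget

variable {S : Scheme.{u}} {T : Over S} {𝒲 : AlgSt.Cat S}

/-- The point of `T` given by the value of a functor to the category of `T`. -/
def secF (F : 𝒲 ⥤ᵇ AlgSt.ofSch T) (w : 𝒲.obj) : 𝒲.p.obj w ⟶ T :=
  eqToHom (F.w_obj w).symm ≫ (F.obj w).sec.down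

theorem secF_map (F : 𝒲 ⥤ᵇ AlgSt.ofSch T) {w' w : 𝒲.obj} (m : w' ⟶ w) :
    𝒲.p.map m ≫ secF F w = secF F w' := by
  have e : (F.map m).hom ≫ (F.obj w).sec.down = (F.obj w').sec.down := congrArg ULift.down (F.map m).map_sec
  have h : (F.map m).hom = eqToHom (F.w_obj w') ≫ 𝒲.p.map m ≫ eqToHom (F.w_obj w).symm := based_map F m
  rw [secF, secF, ← e, h]
  simp [Category.assoc]

theorem secF_congr {F F' : 𝒲 ⥤ᵇ AlgSt.ofSch T} (α : F ≅ F') (w : 𝒲.obj) : secF F w = secF F' w := by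
  have e : (α.hom.toNatTrans.app w).hom ≫ (F'.obj w).sec.down = (F.obj w).sec.down :=
    congrArg ULift.down (α.hom.toNatTrans.app w).map_sec
  have h : (α.hom.toNatTrans.app w).hom = eqToHom ((F.w_obj w).trans (F'.w_obj w).symm) := by
    have : (AlgSt.ofSch T).p.IsHomLift (𝟙 (𝒲.p.obj w)) (α.hom.toNatTrans.app w) :=
      BasedNatTrans.isHomLift α.hom rfl
    exact map_eq_of_vert (AlgSt.ofSch T).p (R := 𝒲.p.obj w) _
  rw [secF, secF, ← e, h]
  simp

/-- Isomorphic objects of the category of a scheme. -/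
def eltIso {a b : (AlgSt.ofSch T).obj} (c : a.base ≅ b.base) (h : c.hom ≫ b.sec.down = a.sec.down) : a ≅ b where
  hom := ⟨c.hom, congrArg ULift.up h⟩
  inv := ⟨c.inv, congrArg ULift.up (show c.inv ≫ a.sec.down = b.sec.down by rw [← h, Iso.inv_hom_id_assoc])⟩
  hom_inv_id := Stk.EltObj.hom_ext c.hom_inv_id
  inv_hom_id := Stk.EltObj.hom_ext c.inv_hom_id

/-- Functors to the category of a scheme with the same values are isomorphic. -/
theorem nonempty_iso {F F' : 𝒲 ⥤ᵇ AlgSt.ofSch T} (h : ∀ w, secF F w = secF F' w) : Nonempty (F ≅ F') := by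
  let c : ∀ w, F.obj w ≅ F'.obj w := fun w =>
    eltIso (eqToIso ((F.w_obj w).trans (F'.w_obj w).symm)) (by
      have e := h w
      rw [secF, secF, eqToHom_comp_iff] at e
      rw [e, eqToIso.hom]
      simp)
  refine ⟨BasedNatIso.mkNatIso (NatIso.ofComponents c fun {v w} m => Stk.EltObj.hom_ext ?_) fun w => ?_⟩
  · show (F.map m).hom ≫ (c w).hom.hom = (c v).hom.hom ≫ (F'.map m).hom
    have h1 : (F.map m).hom = eqToHom (F.w_obj v) ≫ 𝒲.p.map m ≫ eqToHom (F.w_obj w).symm := based_map F m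
    have h2 : (F'.map m).hom = eqToHom (F'.w_obj v) ≫ 𝒲.p.map m ≫ eqToHom (F'.w_obj w).symm := based_map F' m
    rw [h1, h2]
    simp [c, eltIso]
  · exact vert_change (AlgSt.ofSch T).p _
      (vert_of_map_eq (AlgSt.ofSch T).p (φ := (c w).hom) (h := (F.w_obj w).trans (F'.w_obj w).symm) rfl) (F.w_obj w)

end SetTarget

variable {R : Type u} [CommRing R] {A : Type u} [CommRing A] [Algebra R A]
  {G : Type u} [Group G] [MulSemiringAction G A] [SMulCommClass G R A]

theorem exists_act [Finite G] {K : Type u} [Field K] (str : Spec (CommRingCat.of K) ⟶ Spec (CommRingCat.of R))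
    (x x' : Over.mk str ⟶ ConstAct.specA R A) (h : x ≫ ConstAct.quot R A G = x' ≫ ConstAct.quot R A G) :
    ∃ g : G, x' = x ≫ ConstAct.act R A G g := by
  obtain ⟨φ, hφ⟩ := Spec.map_surjective x.left
  obtain ⟨φ', hφ'⟩ := Spec.map_surjective x'.left
  have e : CommRingCat.ofHom (ConstAct.inv R A G).val.toRingHom ≫ φ =
      CommRingCat.ofHom (ConstAct.inv R A G).val.toRingHom ≫ φ' :=
    Spec.map_injective (by rw [Spec.map_comp, Spec.map_comp, hφ, hφ']; exact congrArg CommaMorphism.left h)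
  obtain ⟨g, hg⟩ := exists_smul_eq (G := G) (φ := φ.hom) (φ' := φ'.hom) fun a ha =>
    congrArg (fun ψ => ψ (⟨a, ha⟩ : ConstAct.inv R A G)) e
  refine ⟨g, Over.OverMorphism.ext ?_⟩
  rw [Over.comp_left, ConstAct.act_left, ← hφ, ← hφ']
  exact (congrArg Spec.map (show φ' = CommRingCat.ofHom (MulSemiringAction.toRingHom G A g) ≫ φ from
    CommRingCat.hom_ext (RingHom.ext hg))).trans (Spec.map_comp _ _)

variable [Fintype G] [DecidableEq G]
  (π : ConstAct.quotSt R A G Scheme.fppfPrecoverage ⥤ᵇ AlgSt.ofSch (ConstAct.specInv R A G))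
  [Scheme.fppfPrecoverage.{u}.HasIsos]

theorem secF_triv (hπ : BasedFunctor.comp
        (AlgSt.quotMap Scheme.fppfPrecoverage (ConstAct.GR R G) (ConstAct.gaction R A G)) π =
      AlgSt.ofSpMap ((AlgSp.yon (Spec (CommRingCat.of R))).map (ConstAct.quot R A G)))
    {W : Over (Spec (CommRingCat.of R))} (y : W ⟶ ConstAct.X R A) :
    secF π (triv Scheme.fppfPrecoverage (ConstAct.gaction R A G) y) = y ≫ ConstAct.quot R A G := by
  have e := secF_congr (eqToIso hπ) ((AlgSt.ofOverCat (ConstAct.X R A)).obj (Over.mk y))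
  refine Eq.trans ?_ (e.trans ?_)
  · rfl
  · exact Category.id_comp _

theorem map_fst_injective (hπ : BasedFunctor.comp
        (AlgSt.quotMap Scheme.fppfPrecoverage (ConstAct.GR R G) (ConstAct.gaction R A G)) π =
      AlgSt.ofSpMap ((AlgSp.yon (Spec (CommRingCat.of R))).map (ConstAct.quot R A G)))
    {𝒵 : AlgSt.Cat (Spec (CommRingCat.of R))} (h𝒵 : IsFibGrpd 𝒵.p)
    (g : 𝒵 ⥤ᵇ AlgSt.ofSch (ConstAct.specInv R A G)) :
    Function.Injective (AlgSt.Points.map (fpFst g π)) := by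
  intro P Q e
  obtain ⟨p, rfl⟩ := AlgSt.Points.mk_surjective P
  obtain ⟨q, rfl⟩ := AlgSt.Points.mk_surjective Q
  rw [AlgSt.Points.map_mk, AlgSt.Points.map_mk, points_mk_eq_iff h𝒵] at e
  obtain ⟨r, a, b, -⟩ := e
  let a : r.obj ⟶ p.obj.obj.fst := a
  let b : r.obj ⟶ q.obj.obj.fst := b
  let ξ := p.obj.obj.snd
  let ξ' := q.obj.obj.snd
  let B : Over (Spec (CommRingCat.of R)) := Over.mk r.str
  let ca : B ⟶ ξ.base := eqToHom r.lies.symm ≫ 𝒵.p.map a ≫ eqToHom (fp_base_eq p.obj).symm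
  let cb : B ⟶ ξ'.base := eqToHom r.lies.symm ≫ 𝒵.p.map b ≫ eqToHom (fp_base_eq q.obj).symm
  haveI : Surjective ξ.π.left :=
    Quot.π_prop Scheme.fppfPrecoverage_le_fpqcPrecoverage @Surjective inferInstance Quot.surjective_hom ξ
  haveI : Surjective ξ'.π.left :=
    Quot.π_prop Scheme.fppfPrecoverage_le_fpqcPrecoverage @Surjective inferInstance Quot.surjective_hom ξ'
  let s₁ := pullback.snd ξ.π.left ca.left
  let s₂ := pullback.snd ξ'.π.left (s₁ ≫ cb.left)
  obtain ⟨z₁, -⟩ := Surjective.surj (f := s₁) (IsLocalRing.closedPoint r.K)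
  obtain ⟨z, -⟩ := Surjective.surj (f := s₂) z₁
  let K' := (pullback ξ'.π.left (s₁ ≫ cb.left)).residueField z
  let i : Spec (CommRingCat.of K') ⟶ pullback ξ'.π.left (s₁ ≫ cb.left) := Scheme.fromSpecResidueField _ z
  let W : Over (Spec (CommRingCat.of R)) := Over.mk ((i ≫ s₂ ≫ s₁) ≫ r.str)
  let fW : W ⟶ B := Over.homMk (i ≫ s₂ ≫ s₁) rfl
  let t : W ⟶ ξ.P := Over.homMk (i ≫ s₂ ≫ pullback.fst ξ.π.left ca.left) (by
    show _ ≫ ξ.P.hom = _
    rw [← Over.w ξ.π, Category.assoc, Category.assoc, pullback.condition_assoc]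
    simp only [W, Category.assoc]
    rw [Over.w ca]
    rfl)
  let t' : W ⟶ ξ'.P := Over.homMk (i ≫ pullback.fst ξ'.π.left (s₁ ≫ cb.left)) (by
    show _ ≫ ξ'.P.hom = _
    rw [← Over.w ξ'.π, Category.assoc, pullback.condition_assoc]
    simp only [W, Category.assoc]
    rw [Over.w cb]
    rfl)
  have ht : t ≫ ξ.π = fW ≫ ca := Over.OverMorphism.ext (by
    show (i ≫ s₂ ≫ pullback.fst ξ.π.left ca.left) ≫ ξ.π.left = (i ≫ s₂ ≫ s₁) ≫ ca.left
    simp only [Category.assoc, pullback.condition, s₁])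
  have ht' : t' ≫ ξ'.π = fW ≫ cb := Over.OverMorphism.ext (by
    show (i ≫ pullback.fst ξ'.π.left (s₁ ≫ cb.left)) ≫ ξ'.π.left = (i ≫ s₂ ≫ s₁) ≫ cb.left
    simp only [Category.assoc, pullback.condition, s₂])
  let x : W ⟶ ConstAct.X R A := t ≫ ξ.φ
  let x' : W ⟶ ConstAct.X R A := t' ≫ ξ'.φ
  obtain ⟨n, hn, -⟩ := exists_hom_of_point ξ t (fW ≫ ca) ht x rfl
  obtain ⟨n', hn', -⟩ := exists_hom_of_point ξ' t' (fW ≫ cb) ht' x' rfl
  obtain ⟨v, l, hv, hl⟩ := fibGrpd_lift h𝒵 r.obj (fW ≫ eqToHom r.lies.symm)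
  have hfp : ∀ o : (fp g π).obj, secF g o.obj.fst = eqToHom (fp_base_eq o).symm ≫ secF π o.obj.snd := by
    intro o
    have := secF_congr (fpIso g π) o
    refine this.trans ?_
    show eqToHom _ ≫ (π.obj o.obj.snd).sec.down = eqToHom _ ≫ eqToHom _ ≫ _
    rw [eqToHom_trans_assoc]
  have k : x ≫ ConstAct.quot R A G = eqToHom hv.symm ≫ secF g v := by
    rw [← secF_triv π hπ, ← secF_map π n, ← secF_map g (l ≫ a), hfp p.obj]
    show n.base ≫ _ = _
    rw [hn, Functor.map_comp, hl]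
    simp [ca]
    rfl
  have k' : x' ≫ ConstAct.quot R A G = eqToHom hv.symm ≫ secF g v := by
    rw [← secF_triv π hπ, ← secF_map π n', ← secF_map g (l ≫ b), hfp q.obj]
    show n'.base ≫ _ = _
    rw [hn', Functor.map_comp, hl]
    simp [cb]
    rfl
  obtain ⟨gx, hgx⟩ := exists_act _ x x' (k.trans k'.symm)
  obtain ⟨g', hg'⟩ := exists_moves (R := R) gx (x ≫ ConstAct.act R A G gx)
  obtain ⟨χ, hχ, -⟩ := exists_hom_of_smul (K := Scheme.fppfPrecoverage) (aX := ConstAct.gaction R A G) x x' (𝟙 W) g'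
    (by
      rw [hgx]
      refine (congrArg (smulPt _ g') (Category.id_comp _)).trans (hg'.trans ?_)
      rw [Category.assoc, ← ConstAct.act_mul, mul_inv_cancel, ConstAct.act_one]
      exact Category.comp_id x)
  let ξW := triv Scheme.fppfPrecoverage (ConstAct.gaction R A G) x
  let io : g.obj v ≅ π.obj ξW :=
    eltIso (eqToIso ((g.w_obj v).trans (hv.trans (π.w_obj ξW).symm))) (by
      have e1 : secF π ξW = eqToHom hv.symm ≫ secF g v := (secF_triv π hπ x).trans k
      rw [secF, secF, eqToHom_comp_iff] at e1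
      rw [e1, eqToIso.hom]
      simp)
  have hio : (AlgSt.ofSch (ConstAct.specInv R A G)).p.IsHomLift (𝟙 (𝒵.p.obj v)) io.hom :=
    vert_change (AlgSt.ofSch (ConstAct.specInv R A G)).p _
      (vert_of_map_eq (AlgSt.ofSch (ConstAct.specInv R A G)).p (φ := io.hom)
        (h := (g.w_obj v).trans (hv.trans (π.w_obj ξW).symm)) rfl) (g.w_obj v)
  let o : (fp g π).obj := fpMk v ξW io hio
  have hto : ∀ (P : (fp g π).obj) (f₁ : v ⟶ P.obj.fst) (f₂ : ξW ⟶ P.obj.snd),
      f₂.base = eqToHom hv.symm ≫ 𝒵.p.map f₁ ≫ eqToHom (fp_base_eq P).symm → Nonempty (o ⟶ P) := by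
    intro P f₁ f₂ hf
    refine ⟨fpHom f₁ f₂ (Stk.EltObj.hom_ext ?_)⟩
    show (g.map f₁).hom ≫ P.obj.iso.hom.hom = io.hom.hom ≫ (π.map f₂).hom
    have h1 : (g.map f₁).hom = eqToHom (g.w_obj v) ≫ 𝒵.p.map f₁ ≫ eqToHom (g.w_obj P.obj.fst).symm := based_map g f₁
    have h2 : (π.map f₂).hom = eqToHom (π.w_obj ξW) ≫ f₂.base ≫ eqToHom (π.w_obj P.obj.snd).symm := based_map π f₂
    have h3 : P.obj.iso.hom.hom = _ := fp_iso_map P
    rw [h1, h2, h3, hf]
    simp [io, eltIso]
  obtain ⟨mp⟩ := hto p.obj (l ≫ a) n (by rw [hn, Functor.map_comp, hl]; simp [ca])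
  obtain ⟨mq⟩ := hto q.obj (l ≫ b) (χ ≫ n') (by
    show χ.base ≫ n'.base = _
    rw [hχ, hn', Functor.map_comp, hl]
    simp [cb]
    exact Category.id_comp _)
  exact AlgSt.Points.sound ⟨{ K := K', str := W.hom, obj := o, lies := hv }, mp, mq, trivial⟩

theorem gr_lfp : LocallyOfFinitePresentation (ConstAct.GR R G).hom := by
  haveI : Algebra.FinitePresentation R (ConstGrp.F R G) := inferInstanceAs (Algebra.FinitePresentation R (G → R))
  exact (HasRingHomProperty.Spec_iff (P := @LocallyOfFinitePresentation)).mpr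
    (RingHom.finitePresentation_algebraMap.mpr inferInstance)

theorem isAlgStack_fp_quot {𝒵 : AlgSt.Cat (Spec (CommRingCat.of R))}
    (h𝒵 : AlgSt.IsAlgStack Scheme.fppfPrecoverage 𝒵) (g : 𝒵 ⥤ᵇ AlgSt.ofSch (ConstAct.specInv R A G)) :
    AlgSt.IsAlgStack Scheme.fppfPrecoverage (fp g π) := by
  haveI := gr_flat (R := R) (G := G)
  haveI := gr_lfp (R := R) (G := G)
  haveI : IsAffine (ConstAct.GR R G).left := inferInstanceAs (IsAffine (Spec _))
  haveI : IsAffineHom (ConstAct.GR R G).hom := isAffineHom_of_isAffine _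
  have hT := (isDM_ofSp (⟨_, AlgSp.IsAlgSpace.yon_obj (ConstAct.specInv R A G)⟩ : AlgSp.Space _)).1
  exact isAlgStack_fp hT.isStack hT.diag h𝒵 (FlatQuot.isAlgStack_quotSt _ _ (ConstAct.gaction R A G)) g π

theorem isUnivHomeo (hπ : BasedFunctor.comp
        (AlgSt.quotMap Scheme.fppfPrecoverage (ConstAct.GR R G) (ConstAct.gaction R A G)) π =
      AlgSt.ofSpMap ((AlgSp.yon (Spec (CommRingCat.of R))).map (ConstAct.quot R A G))) :
    AlgSt.IsUnivHomeo Scheme.fppfPrecoverage π := by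
  intro 𝒵 h𝒵 g
  let q := ConstAct.quot R A G
  haveI : Algebra.IsInvariant (ConstAct.inv R A G) A G := ⟨fun a ha => ⟨⟨a, ha⟩, rfl⟩⟩
  haveI : Algebra.IsIntegral (ConstAct.inv R A G) A := Algebra.IsInvariant.isIntegral _ _ G
  haveI : IsIntegralHom q.left := (IsIntegralHom.SpecMap_iff).mpr (fun a => Algebra.IsIntegral.isIntegral a)
  haveI : Surjective q.left := ⟨fun P => by
    obtain ⟨Q, -, hQ, hQP⟩ := Ideal.exists_ideal_over_prime_of_isIntegral (S := A) P.asIdeal ⊥ (by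
      intro c hc
      exact (Subtype.ext hc : c = 0) ▸ P.asIdeal.zero_mem)
    exact ⟨⟨Q, hQ⟩, PrimeSpectrum.ext hQP⟩⟩
  have hfp := isAlgStack_fp_quot π h𝒵 g
  have inj := map_fst_injective π hπ h𝒵.isStack.1 g
  -- pulled back charts
  have key : ∀ (U : Over (Spec (CommRingCat.of R))) (y : overCat U ⥤ᵇ 𝒵),
      ∃ (U' : Over (Spec (CommRingCat.of R))) (p : U' ⟶ U) (c : overCat U' ⥤ᵇ fp g π),
        IsClosedMap p.left ∧ Function.Surjective p.left ∧
        ∀ t, AlgSt.Points.map (fpFst g π) (AlgSt.Points.ofChart c t) = AlgSt.Points.ofChart y (p.left t) := by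
    intro U y
    let u : U ⟶ ConstAct.specInv R A G := secF (BasedFunctor.comp y g) (Over.mk (𝟙 U))
    let U' : Over (Spec (CommRingCat.of R)) := Over.mk (pullback.fst q.left u.left ≫ (ConstAct.X R A).hom)
    let x : U' ⟶ ConstAct.X R A := Over.homMk (pullback.fst q.left u.left) rfl
    let p : U' ⟶ U := Over.homMk (pullback.snd q.left u.left) (by
      show pullback.snd q.left u.left ≫ U.hom = pullback.fst q.left u.left ≫ (ConstAct.X R A).hom
      rw [← Over.w u, ← pullback.condition_assoc]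
      exact congrArg (_ ≫ ·) (Over.w q))
    have hxp : x ≫ q = p ≫ u := Over.OverMorphism.ext pullback.condition
    let b : overCat U' ⥤ᵇ ConstAct.quotSt R A G Scheme.fppfPrecoverage :=
      BasedFunctor.comp (AlgSt.overMap x) (BasedFunctor.comp (AlgSt.ofOverCat (ConstAct.X R A))
        (AlgSt.quotMap Scheme.fppfPrecoverage (ConstAct.GR R G) (ConstAct.gaction R A G)))
    have hnat : ∀ (o : Over U), secF (BasedFunctor.comp y g) o = o.hom ≫ u := fun o =>
      (secF_map (BasedFunctor.comp y g) (Over.homMk o.hom (Category.comp_id _) : o ⟶ Over.mk (𝟙 U))).symm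
    obtain ⟨e⟩ : Nonempty (BasedFunctor.comp (BasedFunctor.comp (AlgSt.overMap p) y) g ≅ BasedFunctor.comp b π) :=
      nonempty_iso fun o => by
        have e1 : secF (BasedFunctor.comp (BasedFunctor.comp (AlgSt.overMap p) y) g) o = (o.hom ≫ p) ≫ u :=
          hnat ((AlgSt.overMap p).obj o)
        have e2 : secF (BasedFunctor.comp b π) o = (o.hom ≫ x) ≫ q := secF_triv π hπ (o.hom ≫ x)
        rw [e1, e2, Category.assoc, Category.assoc, hxp]
    refine ⟨U', p, fpLift (BasedFunctor.comp (AlgSt.overMap p) y) b e, ?_, (pullback.snd q.left u.left).surjective,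
      fun t => ?_⟩
    · exact (pullback.snd q.left u.left).isClosedMap
    · rw [map_ofChart, ← ofChart_overMap]
      rfl
  have surj : Function.Surjective (AlgSt.Points.map (fpFst g π)) := by
    intro z
    obtain ⟨K, _, str, y, hy⟩ := exists_ofChart_eq z h𝒵.isStack.1
    obtain ⟨U', p, c, -, hp, hc⟩ := key (Over.mk str) y
    obtain ⟨t, -⟩ := hp (IsLocalRing.closedPoint K)
    exact ⟨_, (hc t).trans (hy _)⟩
  refine ⟨continuous_points_map h𝒵 _, fun W hW => AlgSt.Points.isOpen_iff.2 fun U y _ => ?_, inj, surj⟩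
  obtain ⟨U', p, c, hpc, hp, hc⟩ := key U y
  have hC : IsClosed (AlgSt.Points.ofChart c ⁻¹' Wᶜ) := hW.isClosed_compl.preimage (continuous_ofChart hfp c)
  have hpre : AlgSt.Points.ofChart y ⁻¹' (AlgSt.Points.map (fpFst g π) '' W) =
      (p.left '' (AlgSt.Points.ofChart c ⁻¹' Wᶜ))ᶜ := by
    ext t
    constructor
    · rintro ⟨w, hw, hwt⟩ ⟨t', ht', rfl⟩
      exact ht' ((inj (hwt.trans (hc t').symm)) ▸ hw)
    · intro ht
      obtain ⟨t', rfl⟩ := hp t
      exact ⟨_, not_not.1 fun hn => ht ⟨t', hn, rfl⟩, hc t'⟩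
  rw [hpre]
  exact (hpc _ hC).isOpen_compl

end Groth.Agent.ConstAct19
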