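import Groth.Agent.ConstAct19.CatQuot
import Groth.Agent.ConstAct19.UnivHomeo
import Groth.Agent.Stk19b.FlatQuot.Coarse

/-! `Spec A ⟶ Spec A^G` as a categorical quotient among algebraic spaces; coarse moduli of `[Spec A/G]`. -/

set_option autoImplicit false
set_option linter.style.haveILetI false
set_option backward.isDefEq.respectTransparency false
set_option backward.isDefEq.respectTransparency.types false

universe u

open CategoryTheory CategoryTheory.Limits AlgebraicGeometry MonoidalCategory CartesianMonoidalCategory MonObj Opposite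
open FibCat Groth.Agent.Stk19 Groth.Agent.Stk19b Groth.Agent.Stk19b.QuotTriv

namespace Groth.Agent.ConstAct19

variable {R : Type u} [CommRing R] {A : Type u} [CommRing A] [Algebra R A]
  {G : Type u} [Group G] [Fintype G] [MulSemiringAction G A] [SMulCommClass G R A]

theorem isIntegralHom_quot : IsIntegralHom (ConstAct.quot R A G).left := by
  haveI : Algebra.IsInvariant (ConstAct.inv R A G) A G := ⟨fun a ha => ⟨⟨a, ha⟩, rfl⟩⟩
  haveI : Algebra.IsIntegral (ConstAct.inv R A G) A := Algebra.IsInvariant.isIntegral _ _ G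
  exact (IsIntegralHom.SpecMap_iff).mpr (fun a => Algebra.IsIntegral.isIntegral a)

theorem surjective_quot : Surjective (ConstAct.quot R A G).left := by
  haveI : Algebra.IsInvariant (ConstAct.inv R A G) A G := ⟨fun a ha => ⟨⟨a, ha⟩, rfl⟩⟩
  haveI : Algebra.IsIntegral (ConstAct.inv R A G) A := Algebra.IsInvariant.isIntegral _ _ G
  refine ⟨fun P => ?_⟩
  obtain ⟨Q, -, hQ, hQP⟩ := Ideal.exists_ideal_over_prime_of_isIntegral (S := A) P.asIdeal ⊥ (by
    intro c hc
    exact (Subtype.ext hc : c = 0) ▸ P.asIdeal.zero_mem)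
  exact ⟨⟨Q, hQ⟩, PrimeSpectrum.ext hQP⟩

theorem isInvQuot_quot : IsInvQuot (ConstAct.quot R A G) (fun g => ConstAct.act R A G g) where
  affine_source := inferInstanceAs (IsAffine (Spec _))
  affine_target := inferInstanceAs (IsAffine (Spec _))
  integral := isIntegralHom_quot
  surjective := surjective_quot
  invariant := ConstAct.act_quot R A G
  injective := quot_appTop_injective
  fixed := quot_appTop_fixed
  orbit _ _ _ t x x' e := exists_act t x x' e

/-- Geometric points lift along an invariant quotient. -/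
theorem IsInvQuot.exists_lift {S : Scheme.{u}} {I : Type u} [Fintype I] {X T : Over S} {q : X ⟶ T}
    {σ : I → (X ⟶ X)} (h : IsInvQuot q σ) {K : Type u} [Field K] [IsAlgClosed K]
    {t : Spec (CommRingCat.of K) ⟶ S} (y : Over.mk t ⟶ T) : ∃ x : Over.mk t ⟶ X, x ≫ q = y := by
  haveI := h.affine_source
  haveI := h.affine_target
  haveI := h.integral
  haveI := h.surjective
  obtain ⟨t₀, ht₀⟩ := q.left.surjective (y.left (IsLocalRing.closedPoint K))
  obtain ⟨z, hz, -⟩ := exists_lift_of_point q.left y.left t₀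
    (ht₀.trans (congrArg y.left (Subsingleton.elim (α := PrimeSpectrum K) _ _)))
  exact ⟨Over.homMk z (by
    show z ≫ X.hom = t
    rw [← Over.w q, reassoc_of% hz]
    exact Over.w y), Over.OverMorphism.ext hz⟩

theorem exists_point_lift (Ω : Type u) [Field Ω] [IsAlgClosed Ω] [Algebra R Ω]
    (y : ↥(ConstAct.inv R A G) →ₐ[R] Ω) : ∃ x : A →ₐ[R] Ω, x.comp (ConstAct.inv R A G).val = y := by
  haveI : Algebra.IsInvariant (ConstAct.inv R A G) A G := ⟨fun a ha => ⟨⟨a, ha⟩, rfl⟩⟩
  haveI : Algebra.IsIntegral (ConstAct.inv R A G) A := Algebra.IsInvariant.isIntegral _ _ G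
  haveI := RingHom.ker_isPrime y.toRingHom
  obtain ⟨Q, -, hQ, hQP⟩ := Ideal.exists_ideal_over_prime_of_isIntegral (S := A) (RingHom.ker y.toRingHom) ⊥ (by
    intro c hc
    rw [(Subtype.ext hc : c = 0)]
    exact Ideal.zero_mem _)
  haveI := hQ
  obtain ⟨w, hw, -⟩ := Et18.SHensel.exists_hom_of_prime y.toRingHom Q hQP
  exact ⟨{ w with commutes' := fun r => (RingHom.congr_fun hw (algebraMap R _ r)).trans (y.commutes r) },
    AlgHom.ext fun c => RingHom.congr_fun hw c⟩

theorem exists_point_smul {Ω : Type u} [Field Ω] [Algebra R Ω] (x x' : A →ₐ[R] Ω)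
    (h : x.comp (ConstAct.inv R A G).val = x'.comp (ConstAct.inv R A G).val) :
    ∃ g : G, x' = x.comp (MulSemiringAction.toAlgEquiv R A g : A →ₐ[R] A) := by
  obtain ⟨g, hg⟩ := exists_smul_eq (G := G) (φ := x.toRingHom) (φ' := x'.toRingHom) fun a ha =>
    AlgHom.congr_fun h ⟨a, ha⟩
  exact ⟨g, AlgHom.ext hg⟩

variable [DecidableEq G]

/-- Maps invariant under the constant group scheme are invariant under the group. -/
theorem act_of_gaction {N : AlgSp.Sp (Spec (CommRingCat.of R))}
    (ψ : (AlgSp.yon (Spec (CommRingCat.of R))).obj (ConstAct.X R A) ⟶ N)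
    (hψ : (AlgSp.yon _).map (ConstAct.gaction R A G).act ≫ ψ = (AlgSp.yon _).map (snd _ _) ≫ ψ) (g : G) :
    (AlgSp.yon _).map (ConstAct.act R A G g) ≫ ψ = ψ := by
  obtain ⟨g', hg'⟩ := exists_moves (R := R) g⁻¹ (𝟙 (ConstAct.X R A))
  rw [inv_inv, Category.id_comp] at hg'
  have e1 : (AlgSp.yon _).map (ConstAct.act R A G g) ≫ ψ =
      (AlgSp.yon _).map (lift g' (𝟙 (ConstAct.X R A))) ≫ (AlgSp.yon _).map (ConstAct.gaction R A G).act ≫ ψ := by
    rw [← Functor.map_comp_assoc, ← hg']
  rw [hψ, ← Functor.map_comp_assoc, lift_snd, (AlgSp.yon _).map_id] at e1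
  exact e1.trans (Category.id_comp _)

theorem isCoarseModuli_quot
    (π : ConstAct.quotSt R A G Scheme.fppfPrecoverage ⥤ᵇ AlgSt.ofSch (ConstAct.specInv R A G))
    (hπ : BasedFunctor.comp
        (AlgSt.quotMap Scheme.fppfPrecoverage (ConstAct.GR R G) (ConstAct.gaction R A G)) π =
      AlgSt.ofSpMap ((AlgSp.yon (Spec (CommRingCat.of R))).map (ConstAct.quot R A G))) :
    AlgSt.IsCoarseModuli π := by
  haveI := gr_lfp (R := R) (G := G)
  haveI := Quot.hasIsos_fppf.{u}
  refine FlatQuot.isCoarseModuli_quotSt (ConstAct.gaction R A G) (ConstAct.quot R A G) ?_ ?_ π ⟨eqToIso hπ⟩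
  · intro Ω _ _ t
    refine ⟨fun y => isInvQuot_quot.exists_lift y, fun x x' e => ?_⟩
    obtain ⟨g, hg⟩ := exists_act t x' x e.symm
    obtain ⟨g', hg'⟩ := exists_moves (R := R) g⁻¹ x'
    exact ⟨g', hg'.trans (by rw [inv_inv]; exact hg.symm)⟩
  · exact fun N ψ hψ => existsUnique_factor isInvQuot_quot N.property ψ (act_of_gaction ψ hψ)

end Groth.Agent.ConstAct19
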