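import Groth.Agent.ConstAct19.Coarse

/-! `Y ×_{Spec A^G} [Spec A/G] ⟶ Y` is a coarse moduli space for flat affine `Y ⟶ Spec A^G`. -/

set_option autoImplicit false
set_option linter.style.haveILetI false
set_option backward.isDefEq.respectTransparency false
set_option backward.isDefEq.respectTransparency.types false

universe u

open CategoryTheory CategoryTheory.Limits AlgebraicGeometry MonoidalCategory CartesianMonoidalCategory MonObj Opposite
open FibCat Groth.Agent.Stk19 Groth.Agent.Stk19b Groth.Agent.Stk19b.QuotTriv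

namespace Groth.Agent.ConstAct19

section SheafTarget

variable {S : Scheme.{u}} {N : AlgSp.Sp S} {𝒲 : AlgSt.Cat S}

/-- The value at an object of a functor to the category of a sheaf, as a map of sheaves. -/
noncomputable def secM (F : 𝒲 ⥤ᵇ AlgSt.ofSp N) (w : 𝒲.obj) : (AlgSp.yon S).obj (𝒲.p.obj w) ⟶ N :=
  (AlgSp.J S).uliftYonedaEquiv.symm (N.obj.map (eqToHom (F.w_obj w).symm).op (F.obj w).sec)

theorem map_map_sec {a b c : Over S} (u : a ⟶ b) (v : b ⟶ c) (z : N.obj.obj (op c)) :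
    N.obj.map u.op (N.obj.map v.op z) = N.obj.map (u ≫ v).op z := by
  simp

theorem secM_map (F : 𝒲 ⥤ᵇ AlgSt.ofSp N) {w' w : 𝒲.obj} (m : w' ⟶ w) :
    (AlgSp.yon S).map (𝒲.p.map m) ≫ secM F w = secM F w' := by
  apply (AlgSp.J S).uliftYonedaEquiv.injective
  rw [← GrothendieckTopology.uliftYonedaEquiv_naturality, secM, secM, Equiv.apply_symm_apply, Equiv.apply_symm_apply,
    ← (F.map m).map_sec]
  refine (map_map_sec _ _ _).trans (Eq.trans ?_ (map_map_sec _ _ _).symm)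
  have h : (F.map m).hom = eqToHom (F.w_obj w') ≫ 𝒲.p.map m ≫ eqToHom (F.w_obj w).symm := based_map F m
  rw [h]
  simp

theorem eq_of_secM {F F' : 𝒲 ⥤ᵇ AlgSt.ofSp N} (h : ∀ w, secM F w = secM F' w) : F = F' := by
  refine Quot.basedFunctor_ext fun w => Quot.eltObj_ext ((F.w_obj w).trans (F'.w_obj w).symm) ?_
  have e := (AlgSp.J S).uliftYonedaEquiv.symm.injective (h w)
  have e' := congrArg (N.obj.map (eqToHom (F.w_obj w)).op) e
  rw [map_map_sec, map_map_sec, eqToHom_trans, eqToHom_trans, eqToHom_refl] at e'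
  simpa using e'.symm

theorem secM_comp_ofSpMap {T : Over S} (F : 𝒲 ⥤ᵇ AlgSt.ofSch T) (χ : (AlgSp.yon S).obj T ⟶ N) (w : 𝒲.obj) :
    secM (BasedFunctor.comp F (AlgSt.ofSpMap χ)) w = (AlgSp.yon S).map (secF F w) ≫ χ := by
  apply (AlgSp.J S).uliftYonedaEquiv.injective
  rw [secM, Equiv.apply_symm_apply, GrothendieckTopology.uliftYonedaEquiv_comp,
    GrothendieckTopology.uliftYonedaEquiv_uliftYoneda_map]
  show N.obj.map _ (χ.hom.app (op (F.obj w).base) (F.obj w).sec) = χ.hom.app _ _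
  rw [← NatTrans.naturality_apply χ.hom]
  rfl

theorem fibSec_eq_secF {T : Over S} (F : 𝒲 ⥤ᵇ AlgSt.ofSch T) {W : Over S} (x : 𝒲.p.Fiber W) :
    AlgSt.fibSec F x = ULift.up (eqToHom x.2.symm ≫ secF F x.1) := by
  rw [secF, eqToHom_trans_assoc]
  rfl

end SheafTarget

section Fp

variable {S : Scheme.{u}} {T : Over S} {𝒳 𝒴 : AlgSt.Cat S} {F : 𝒳 ⥤ᵇ AlgSt.ofSch T} {F' : 𝒴 ⥤ᵇ AlgSt.ofSch T}

theorem fp_secF (o : (fp F F').obj) : secF F o.obj.fst = eqToHom (fp_base_eq o).symm ≫ secF F' o.obj.snd := by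
  have := secF_congr (fpIso F F') o
  refine this.trans ?_
  show eqToHom _ ≫ (F'.obj o.obj.snd).sec.down = eqToHom _ ≫ eqToHom _ ≫ _
  rw [eqToHom_trans_assoc]

theorem exists_fp_obj (v : 𝒳.obj) (w : 𝒴.obj) (h : 𝒳.p.obj v = 𝒴.p.obj w)
    (hs : secF F v = eqToHom h ≫ secF F' w) :
    ∃ (o : (fp F F').obj), o.obj.fst = v ∧ o.obj.snd = w := by
  let io : F.obj v ≅ F'.obj w :=
    eltIso (eqToIso ((F.w_obj v).trans (h.trans (F'.w_obj w).symm))) (by
      have e := hs
      rw [secF, secF, eqToHom_comp_iff] at e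
      rw [e, eqToIso.hom]
      simp)
  exact ⟨fpMk v w io (vert_change (AlgSt.ofSch T).p _
      (vert_of_map_eq (AlgSt.ofSch T).p (φ := io.hom)
        (h := (F.w_obj v).trans (h.trans (F'.w_obj w).symm)) rfl) (F.w_obj v)), rfl, rfl⟩

theorem exists_fp_hom {o P : (fp F F').obj} (f₁ : o.obj.fst ⟶ P.obj.fst) (f₂ : o.obj.snd ⟶ P.obj.snd)
    (hf : 𝒴.p.map f₂ = eqToHom (fp_base_eq o) ≫ 𝒳.p.map f₁ ≫ eqToHom (fp_base_eq P).symm) :
    ∃ m : o ⟶ P, (fp F F').p.map m = 𝒳.p.map f₁ := by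
  refine ⟨fpHom f₁ f₂ (Stk.EltObj.hom_ext ?_), rfl⟩
  show (F.map f₁).hom ≫ P.obj.iso.hom.hom = o.obj.iso.hom.hom ≫ (F'.map f₂).hom
  have h1 : (F.map f₁).hom = eqToHom (F.w_obj o.obj.fst) ≫ 𝒳.p.map f₁ ≫ eqToHom (F.w_obj P.obj.fst).symm := based_map F f₁
  have h2 : (F'.map f₂).hom = eqToHom (F'.w_obj o.obj.snd) ≫ 𝒴.p.map f₂ ≫ eqToHom (F'.w_obj P.obj.snd).symm := based_map F' f₂
  have h3 : P.obj.iso.hom.hom = _ := fp_iso_map P
  have h4 : o.obj.iso.hom.hom = _ := fp_iso_map o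
  rw [h1, h2, h3, h4, hf]
  simp

end Fp

variable {R : Type u} [CommRing R] {A : Type u} [CommRing A] [Algebra R A]
  {G : Type u} [Group G] [Fintype G] [DecidableEq G] [MulSemiringAction G A] [SMulCommClass G R A]

theorem isCoarseModuli_fpFst
    (π : ConstAct.quotSt R A G Scheme.fppfPrecoverage ⥤ᵇ AlgSt.ofSch (ConstAct.specInv R A G))
    (hπ : BasedFunctor.comp
        (AlgSt.quotMap Scheme.fppfPrecoverage (ConstAct.GR R G) (ConstAct.gaction R A G)) π =
      AlgSt.ofSpMap ((AlgSp.yon (Spec (CommRingCat.of R))).map (ConstAct.quot R A G)))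
    (Y : Over (Spec (CommRingCat.of R))) [IsAffine Y.left] (g : Y ⟶ ConstAct.specInv R A G) [Flat g.left] :
    AlgSt.IsCoarseModuli (fpFst (AlgSt.ofSpMap ((AlgSp.yon (Spec (CommRingCat.of R))).map g)) π) := by
  haveI := gr_flat (R := R) (G := G)
  haveI := gr_lfp (R := R) (G := G)
  haveI := Quot.hasIsos_fppf.{u}
  let q := ConstAct.quot R A G
  let gB := AlgSt.ofSpMap ((AlgSp.yon (Spec (CommRingCat.of R))).map g)
  obtain ⟨XY, x, k, sq⟩ := exists_pullback_over q g
  choose gm hgmx hgmk using exists_lift_endo isInvQuot_quot sq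
  have hk := (isInvQuot_quot (R := R) (A := A) (G := G)).baseChange sq gm hgmx hgmk
  have hxk : x ≫ q = k ≫ g := Over.OverMorphism.ext sq.w
  let elt : ∀ {W : Over (Spec (CommRingCat.of R))}, (W ⟶ Y) → (AlgSt.ofSch Y).obj := fun {W} y => ⟨W, ⟨y⟩⟩
  have secF_gB : ∀ v : (AlgSt.ofSch Y).obj, secF gB v = v.sec.down ≫ g := fun v => Category.id_comp _
  -- trivial objects
  let z : ∀ {W : Over (Spec (CommRingCat.of R))}, (W ⟶ XY) → (ConstAct.quotSt R A G Scheme.fppfPrecoverage).obj :=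
    fun {W} l => triv Scheme.fppfPrecoverage (ConstAct.gaction R A G) (l ≫ x)
  have hobj : ∀ {W : Over (Spec (CommRingCat.of R))} (l : W ⟶ XY),
      ∃ o : (fp gB π).obj, o.obj.fst = elt (l ≫ k) ∧ o.obj.snd = z l := fun {W} l => by
    refine exists_fp_obj (F := gB) (F' := π) (elt (l ≫ k)) (z l) rfl ?_
    rw [secF_gB, secF_triv π hπ]
    show (l ≫ k) ≫ g = 𝟙 W ≫ (l ≫ x) ≫ q
    rw [Category.id_comp, Category.assoc, Category.assoc, hxk]
  choose ob hob₁ hob₂ using @hobj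
  have hlies : ∀ {W : Over (Spec (CommRingCat.of R))} (l : W ⟶ XY), (fp gB π).p.obj (ob l) = W := fun {W} l => by
    show (AlgSt.ofSch Y).p.obj (ob l).obj.fst = W
    rw [hob₁]
    rfl
  -- morphisms out of trivial objects
  have hout : ∀ {W : Over (Spec (CommRingCat.of R))} (l : W ⟶ XY) (P : (fp gB π).obj)
      (c : W ⟶ (AlgSt.ofSch Y).p.obj P.obj.fst) (n : z l ⟶ P.obj.snd),
      c ≫ P.obj.fst.sec.down = l ≫ k → n.base = c ≫ eqToHom (fp_base_eq P).symm →
      ∃ m : ob l ⟶ P, (fp gB π).p.map m = eqToHom (hlies l) ≫ c := by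
    intro W l P c n hc hn
    let f₁ : elt (l ≫ k) ⟶ P.obj.fst := ⟨c, congrArg ULift.up hc⟩
    obtain ⟨m, hm⟩ := exists_fp_hom (o := ob l) (P := P) (eqToHom (hob₁ l) ≫ f₁) (eqToHom (hob₂ l) ≫ n) (by
      rw [Functor.map_comp, Functor.map_comp, eqToHom_map, eqToHom_map]
      show _ ≫ n.base = _ ≫ (_ ≫ c) ≫ _
      rw [hn]
      simp only [Category.assoc, eqToHom_trans_assoc])
    refine ⟨m, hm.trans ?_⟩
    rw [Functor.map_comp, eqToHom_map]
    rfl
  -- the group moves trivial objects to isomorphic ones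
  have hmove : ∀ {W : Over (Spec (CommRingCat.of R))} (l : W ⟶ XY) (h : G),
      ∃ m : ob (l ≫ gm h) ⟶ ob l, (fp gB π).p.map m = eqToHom ((hlies (l ≫ gm h)).trans (hlies l).symm) := by
    intro W l h
    obtain ⟨g', hg'⟩ := exists_moves (R := R) h⁻¹ (l ≫ x)
    obtain ⟨n, hn, -⟩ := exists_hom_of_smul (K := Scheme.fppfPrecoverage) (aX := ConstAct.gaction R A G)
      ((l ≫ gm h) ≫ x) (l ≫ x) (𝟙 W) g' (by
        rw [Category.id_comp, hg', inv_inv, Category.assoc l (gm h), hgmx, Category.assoc])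
    have hW : W = (AlgSt.ofSch Y).p.obj (ob l).obj.fst := (hlies l).symm
    have hsec : eqToHom hW ≫ (ob l).obj.fst.sec.down = (l ≫ gm h) ≫ k := by
      rw [Category.assoc, hgmk]
      have key : ∀ {v v' : (AlgSt.ofSch Y).obj} (e : v = v') (h' : v'.base = v.base),
          eqToHom h' ≫ v.sec.down = v'.sec.down := by
        rintro v _ rfl h'; simp
      exact key (hob₁ l) _
    obtain ⟨m, hm⟩ := hout (l ≫ gm h) (ob l) (eqToHom hW) (n ≫ eqToHom (hob₂ l).symm) hsec (by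
      show n.base ≫ (ConstAct.quotSt R A G Scheme.fppfPrecoverage).p.map (eqToHom (hob₂ l).symm) = _
      rw [hn, eqToHom_map, eqToHom_trans]
      exact Category.id_comp _)
    exact ⟨m, hm.trans (eqToHom_trans _ _)⟩
  refine ⟨⟨AlgSp.IsAlgSpace.yon_obj Y, fun N hN φ => ?_⟩, fun Ω _ _ t => ?_⟩
  · -- the invariant map
    let val : ∀ {W : Over (Spec (CommRingCat.of R))} (_ : W ⟶ XY), (AlgSp.yon _).obj W ⟶ N := fun {W} l =>
      (AlgSp.yon _).map (eqToHom (hlies l).symm) ≫ secM φ (ob l)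
    have hval : ∀ {W : Over (Spec (CommRingCat.of R))} (l : W ⟶ XY), val l = (AlgSp.yon _).map l ≫ val (𝟙 XY) := by
      intro W l
      have hid : (ob (𝟙 XY)).obj.snd = z (𝟙 XY) := hob₂ _
      obtain ⟨n, hn, -⟩ := exists_hom_of_smul (K := Scheme.fppfPrecoverage) (aX := ConstAct.gaction R A G)
        (l ≫ x) (𝟙 XY ≫ x) l (toUnit W ≫ MonObj.one) (by rw [Category.id_comp, ← Hom.one_def]; exact smulPt_one _ _)
      have hW : XY = (AlgSt.ofSch Y).p.obj (ob (𝟙 XY)).obj.fst := (hlies _).symm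
      have hsec : (l ≫ eqToHom hW) ≫ (ob (𝟙 XY)).obj.fst.sec.down = l ≫ k := by
        have key : ∀ {v v' : (AlgSt.ofSch Y).obj} (e : v = v') (h' : v'.base = v.base),
            eqToHom h' ≫ v.sec.down = v'.sec.down := by
          rintro v _ rfl h'; simp
        rw [Category.assoc]
        exact congrArg (l ≫ ·) ((key (hob₁ (𝟙 XY)) _).trans (Category.id_comp k))
      obtain ⟨m, hm⟩ := hout l (ob (𝟙 XY)) (l ≫ eqToHom hW) (n ≫ eqToHom hid.symm) hsec (by
        show n.base ≫ (ConstAct.quotSt R A G Scheme.fppfPrecoverage).p.map (eqToHom hid.symm) = _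
        rw [hn, eqToHom_map, Category.assoc, eqToHom_trans])
      show _ ≫ _ = _
      rw [← secM_map φ m, hm, ← Functor.map_comp_assoc, ← Functor.map_comp_assoc, eqToHom_trans_assoc, eqToHom_refl,
        Category.id_comp]
    let ψ := val (𝟙 XY)
    have hψ : ∀ h : G, (AlgSp.yon _).map (gm h) ≫ ψ = ψ := fun h => by
      obtain ⟨m, hm⟩ := hmove (𝟙 XY) h
      rw [← hval]
      show _ = (AlgSp.yon _).map (eqToHom (hlies (𝟙 XY)).symm) ≫ secM φ (ob (𝟙 XY))
      have e1 : val (gm h) = val (𝟙 XY ≫ gm h) := by rw [Category.id_comp]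
      rw [e1]
      show _ ≫ _ = _
      rw [← secM_map φ m, hm, ← Functor.map_comp_assoc, eqToHom_trans]
    obtain ⟨χ, hχ, hu⟩ := existsUnique_factor hk hN ψ hψ
    refine ⟨χ, ⟨eqToIso (eq_of_secM fun o => ?_)⟩, fun χ' ⟨j⟩ => hu χ' ?_⟩
    · rw [secM_comp_ofSpMap]
      let ξ := o.obj.snd
      haveI : Flat ξ.π.left := Quot.π_prop Scheme.fppfPrecoverage_le_fpqcPrecoverage @Flat AlgSpLib.descends_flat
        inferInstance ξ
      haveI : LocallyOfFinitePresentation ξ.π.left :=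
        Quot.π_prop Scheme.fppfPrecoverage_le_fpqcPrecoverage @LocallyOfFinitePresentation inferInstance inferInstance ξ
      haveI : Surjective ξ.π.left :=
        Quot.π_prop Scheme.fppfPrecoverage_le_fpqcPrecoverage @Surjective inferInstance Quot.surjective_hom ξ
      let c : ξ.P ⟶ (AlgSt.ofSch Y).p.obj o.obj.fst := ξ.π ≫ eqToHom (fp_base_eq o)
      haveI : IsIso (eqToHom (fp_base_eq o)).left := inferInstanceAs (IsIso ((Over.forget _).map (eqToHom _)))
      haveI : Flat c.left := inferInstanceAs (Flat (ξ.π.left ≫ _))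
      haveI : LocallyOfFinitePresentation c.left := inferInstanceAs (LocallyOfFinitePresentation (ξ.π.left ≫ _))
      haveI : Surjective c.left := inferInstanceAs (Surjective (ξ.π.left ≫ _))
      obtain ⟨n₀, hn₀, -⟩ := exists_hom_of_point ξ (𝟙 ξ.P) ξ.π (Category.id_comp _) ξ.φ (Category.id_comp _)
      have hy : secF (fpFst gB π) o = o.obj.fst.sec.down := Category.id_comp _
      have hcomp : ξ.φ ≫ q = (c ≫ o.obj.fst.sec.down) ≫ g := by
        rw [← secF_triv π hπ ξ.φ, ← secF_map π n₀, Category.assoc, ← secF_gB o.obj.fst, fp_secF o]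
        show n₀.base ≫ _ = _
        rw [hn₀]
        simp [c, ξ]
      let l : ξ.P ⟶ XY := Over.homMk (sq.lift ξ.φ.left (c ≫ o.obj.fst.sec.down).left (congrArg CommaMorphism.left hcomp)) (by
        rw [← Over.w x, sq.lift_fst_assoc]
        exact Over.w ξ.φ)
      have hlx : l ≫ x = ξ.φ := Over.OverMorphism.ext (sq.lift_fst _ _ _)
      have hlk : l ≫ k = c ≫ o.obj.fst.sec.down := Over.OverMorphism.ext (sq.lift_snd _ _ _)
      obtain ⟨n, hn, -⟩ := exists_hom_of_point ξ (𝟙 ξ.P) ξ.π (Category.id_comp _) (l ≫ x) (by rw [hlx]; exact Category.id_comp _)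
      obtain ⟨m, hm⟩ := hout l o c n hlk.symm (by rw [hn]; simp [c, ξ])
      refine Groth.Agent.AlgSpLib.eq_of_covering
        (Groth.Agent.AlgSpLib.mem_J_of_flat_lfp_surjective c (R := Sieve.generate (Presieve.singleton c))
          ⟨_, 𝟙 _, c, Presieve.singleton_self c, Category.id_comp c⟩) fun W f hf => ?_
      obtain ⟨_, r, _, ⟨⟩, rfl⟩ := hf
      have key : (AlgSp.yon _).map c ≫ secM φ o = (AlgSp.yon _).map c ≫ (AlgSp.yon _).map (secF (fpFst gB π) o) ≫ χ := by
        have e1 : val l = (AlgSp.yon _).map c ≫ secM φ o := by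
          show _ ≫ _ = _
          rw [← secM_map φ m, hm, ← Functor.map_comp_assoc, eqToHom_trans_assoc, eqToHom_refl, Category.id_comp]
        rw [← e1, hval, hy]
        show _ ≫ ψ = _
        rw [← hχ, ← Functor.map_comp_assoc, ← Functor.map_comp_assoc, hlk]
      have e2 : ∀ (b : (AlgSp.yon _).obj _ ⟶ N),
          (AlgSp.yon (Spec (CommRingCat.of R))).map (r ≫ c) ≫ b = (AlgSp.yon _).map r ≫ (AlgSp.yon _).map c ≫ b :=
        fun b => Functor.map_comp_assoc _ _ _ _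
      exact (e2 _).trans ((congrArg (fun θ => (AlgSp.yon _).map r ≫ θ) key.symm).trans (e2 _).symm)
    · have e := congrArg (fun θ => (AlgSp.yon _).map (eqToHom (hlies (𝟙 XY)).symm) ≫ secM θ (ob (𝟙 XY))) (Quot.eq_of_iso j)
      refine Eq.trans ?_ e
      show _ = _ ≫ secM (BasedFunctor.comp (fpFst gB π) (AlgSt.ofSpMap χ')) (ob (𝟙 XY))
      rw [secM_comp_ofSpMap, ← Functor.map_comp_assoc]
      refine congrArg (fun w => (AlgSp.yon _).map w ≫ χ') ?_
      have key : ∀ {v v' : (AlgSt.ofSch Y).obj} (e : v = v') (h' : v'.base = v.base),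
          eqToHom h' ≫ v.sec.down = v'.sec.down := by
        rintro v _ rfl h'; simp
      show k = eqToHom _ ≫ 𝟙 _ ≫ (ob (𝟙 XY)).obj.fst.sec.down
      rw [Category.id_comp]
      exact ((key (hob₁ (𝟙 XY)) _).trans (Category.id_comp k)).symm
  · have hfp : IsFibGrpd (fp gB π).p :=
      (isAlgStack_fp_quot π (isDM_ofSp (⟨_, AlgSp.IsAlgSpace.yon_obj Y⟩ : AlgSp.Space _)).1 gB).isStack.1
    have key : ∀ {v v' : (AlgSt.ofSch Y).obj} (e : v = v') (h' : v'.base = v.base),
        eqToHom h' ≫ v.sec.down = v'.sec.down := by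
      rintro v _ rfl h'; simp
    let obF : ∀ (_ : Over.mk t ⟶ XY), (fp gB π).p.Fiber (Over.mk t) := fun l =>
      Functor.Fiber.mk (p := (fp gB π).p) (hlies l)
    have hsec : ∀ l, AlgSt.fibSec (fpFst gB π) (obF l) = ULift.up (l ≫ k) := fun l => by
      rw [fibSec_eq_secF]
      refine congrArg ULift.up ?_
      show eqToHom _ ≫ 𝟙 _ ≫ (ob l).obj.fst.sec.down = _
      rw [Category.id_comp]
      exact key (hob₁ l) _
    -- isomorphisms in the fibre from vertical morphisms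
    have hiso : ∀ {a b : (fp gB π).p.Fiber (Over.mk t)} (m : a.1 ⟶ b.1),
        (fp gB π).p.map m = eqToHom (a.2.trans b.2.symm) → Nonempty (a ≅ b) := fun {a b} m hm => by
      haveI : IsIso ((fp gB π).p.map m) := by rw [hm]; infer_instance
      haveI := fibGrpd_isIso hfp m
      haveI : (fp gB π).p.IsHomLift (𝟙 (Over.mk t)) m :=
        vert_change (fp gB π).p _ (vert_of_map_eq (fp gB π).p (φ := m) (h := a.2.trans b.2.symm) hm) a.2
      haveI : (fp gB π).p.IsHomLift (𝟙 (Over.mk t)) (inv m) := by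
        have := IsHomLift.lift_id_inv_isIso (p := (fp gB π).p) (Over.mk t) m
        exact this
      exact ⟨⟨⟨m, inferInstance⟩, ⟨inv m, inferInstance⟩, Subtype.ext (IsIso.hom_inv_id m), Subtype.ext (IsIso.inv_hom_id m)⟩⟩
    -- every object is isomorphic to a trivial one
    have htriv : ∀ A' : (fp gB π).p.Fiber (Over.mk t), ∃ l, Nonempty (obF l ≅ A') := fun A' => by
      let ξ := A'.1.obj.snd
      haveI : Surjective ξ.π.left :=
        Quot.π_prop Scheme.fppfPrecoverage_le_fpqcPrecoverage @Surjective inferInstance Quot.surjective_hom ξ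
      haveI : LocallyOfFinitePresentation ξ.π.left :=
        Quot.π_prop Scheme.fppfPrecoverage_le_fpqcPrecoverage @LocallyOfFinitePresentation inferInstance inferInstance ξ
      have hB : ξ.base = Over.mk t := (fp_base_eq A'.1).trans A'.2
      haveI : IsIso (eqToHom hB).left := inferInstanceAs (IsIso ((Over.forget _).map (eqToHom hB)))
      obtain ⟨σ, hσ⟩ := FlatQuot.exists_point_of_surjective (Ω := Ω) (ξ.π.left ≫ (eqToHom hB).left)
      have hw : σ ≫ ξ.P.hom = t := by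
        have h1 : (ξ.π.left ≫ (eqToHom hB).left) ≫ t = ξ.P.hom := by
          rw [Category.assoc]
          exact (congrArg (ξ.π.left ≫ ·) (Over.w (eqToHom hB))).trans (Over.w ξ.π)
        rw [← h1, ← Category.assoc, hσ]; exact Category.id_comp _
      let p : Over.mk t ⟶ ξ.P := Over.homMk σ hw
      have hp : p ≫ ξ.π = eqToHom hB.symm := by
        rw [← cancel_mono (eqToHom hB), eqToHom_trans, eqToHom_refl, Category.assoc]
        exact Over.OverMorphism.ext hσ
      let c : Over.mk t ⟶ (AlgSt.ofSch Y).p.obj A'.1.obj.fst := eqToHom A'.2.symm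
      obtain ⟨n₀, hn₀, -⟩ := exists_hom_of_point ξ p _ hp (p ≫ ξ.φ) rfl
      have hcomp : (p ≫ ξ.φ) ≫ q = (c ≫ A'.1.obj.fst.sec.down) ≫ g := by
        rw [← secF_triv π hπ (p ≫ ξ.φ), ← secF_map π n₀, Category.assoc, ← secF_gB A'.1.obj.fst, fp_secF A'.1]
        show n₀.base ≫ _ = _
        rw [hn₀]
        simp only [c, eqToHom_trans_assoc]
        rfl
      let l : Over.mk t ⟶ XY := Over.homMk (sq.lift (p ≫ ξ.φ).left (c ≫ A'.1.obj.fst.sec.down).left
          (congrArg CommaMorphism.left hcomp)) (by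
        rw [← Over.w x, sq.lift_fst_assoc]
        exact Over.w (p ≫ ξ.φ))
      have hlx : l ≫ x = p ≫ ξ.φ := Over.OverMorphism.ext (sq.lift_fst _ _ _)
      have hlk : l ≫ k = c ≫ A'.1.obj.fst.sec.down := Over.OverMorphism.ext (sq.lift_snd _ _ _)
      obtain ⟨n, hn, -⟩ := exists_hom_of_point ξ p _ hp (l ≫ x) hlx.symm
      obtain ⟨m, hm⟩ := hout l A'.1 c n hlk.symm (by
        rw [hn]
        show eqToHom _ = eqToHom _ ≫ eqToHom _
        rw [eqToHom_trans])
      exact ⟨l, hiso (a := obF l) m (hm.trans (eqToHom_trans _ _))⟩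
    refine ⟨fun m => ?_, fun A' B' hAB => ?_⟩
    · obtain ⟨l, hl⟩ := hk.exists_lift m.down
      exact ⟨obF l, (hsec l).trans (congrArg ULift.up hl)⟩
    · obtain ⟨l, ⟨i₁⟩⟩ := htriv A'
      obtain ⟨l', ⟨i₂⟩⟩ := htriv B'
      rw [← FlatQuot.fibSec_of_iso _ i₁.hom, ← FlatQuot.fibSec_of_iso _ i₂.hom, hsec, hsec] at hAB
      obtain ⟨h, hh⟩ := hk.orbit Ω t l l' (congrArg ULift.down hAB)
      subst hh
      obtain ⟨m, hm⟩ := hmove l h
      obtain ⟨i₃⟩ := hiso (a := obF (l ≫ gm h)) (b := obF l) m hm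
      exact ⟨i₁.symm ≪≫ i₃.symm ≪≫ i₂⟩

end Groth.Agent.ConstAct19
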