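import Groth.Agent.ConstAct19.Invariants
import Groth.Agent.AlgSpLib.Diag
import Groth.Agent.AlgSpLib.QuotSpLemmas
import Mathlib.AlgebraicGeometry.ZariskisMainTheorem
import Mathlib.AlgebraicGeometry.Morphisms.Integral
import Mathlib.FieldTheory.IsAlgClosed.Basic

/-!
# Quotients of affine schemes by finite families of endomorphisms

The conditions on an affine morphism `q : X ⟶ T` which make it a categorical quotient among algebraic spaces, their
stability under flat affine base change, and the uniqueness of factorisations.
-/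

set_option autoImplicit false
set_option linter.style.haveILetI false
set_option backward.isDefEq.respectTransparency false
set_option backward.isDefEq.respectTransparency.types false

universe u

open CategoryTheory CategoryTheory.Limits AlgebraicGeometry Opposite AlgSp

namespace Groth.Agent.ConstAct19

variable {S : Scheme.{u}} {ι : Type u} [Fintype ι]

/-- An integral surjection of affine schemes whose functions are the invariant ones and whose geometric fibres are
orbits. -/
structure IsInvQuot {X T : Over S} (q : X ⟶ T) (σ : ι → (X ⟶ X)) : Prop where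
  affine_source : IsAffine X.left
  affine_target : IsAffine T.left
  integral : IsIntegralHom q.left
  surjective : Surjective q.left
  invariant : ∀ g, σ g ≫ q = q
  injective : Function.Injective q.left.appTop
  fixed : ∀ a, (∀ g, (σ g).left.appTop a = a) → a ∈ Set.range q.left.appTop
  orbit : ∀ (K : Type u) [Field K] [IsAlgClosed K] (t : Spec (CommRingCat.of K) ⟶ S) (x x' : Over.mk t ⟶ X),
    x ≫ q = x' ≫ q → ∃ g, x' = x ≫ σ g

variable {X T : Over S} {q : X ⟶ T} {σ : ι → (X ⟶ X)}

theorem exists_lift_endo (h : IsInvQuot q σ) {E XE : Over S} {e : E ⟶ T} {x : XE ⟶ X} {k : XE ⟶ E}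
    (sq : IsPullback x.left k.left q.left e.left) (g : ι) :
    ∃ γ : XE ⟶ XE, γ ≫ x = x ≫ σ g ∧ γ ≫ k = k := by
  have hw : (x ≫ σ g).left ≫ q.left = k.left ≫ e.left := by
    rw [← Over.comp_left, Category.assoc, h.invariant, Over.comp_left, sq.w]
  have hl : sq.lift (x ≫ σ g).left k.left hw ≫ XE.hom = XE.hom := by
    rw [← Over.w k, ← Category.assoc, sq.lift_snd]
  exact ⟨Over.homMk _ hl, Over.OverMorphism.ext (sq.lift_fst _ _ _), Over.OverMorphism.ext (sq.lift_snd _ _ _)⟩

/-- Pullbacks of schemes over `S`. -/
theorem exists_pullback_over {E : Over S} (q : X ⟶ T) (e : E ⟶ T) :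
    ∃ (XE : Over S) (x : XE ⟶ X) (k : XE ⟶ E), IsPullback x.left k.left q.left e.left := by
  refine ⟨Over.mk (pullback.fst q.left e.left ≫ X.hom), Over.homMk (pullback.fst q.left e.left) rfl,
    Over.homMk (pullback.snd q.left e.left) ?_, IsPullback.of_hasPullback _ _⟩
  show pullback.snd q.left e.left ≫ E.hom = pullback.fst q.left e.left ≫ X.hom
  rw [← Over.w e, ← Over.w q, pullback.condition_assoc]

theorem app_injective (h : IsInvQuot q σ) {E XE : Over S} {e : E ⟶ T} [Flat e.left] {x : XE ⟶ X} {k : XE ⟶ E}
    (sq : IsPullback x.left k.left q.left e.left) {V : E.left.Opens} (hV : IsAffineOpen V) :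
    Function.Injective (k.left.app V) := by
  haveI := h.affine_source
  haveI := h.affine_target
  choose γ hγx hγk using exists_lift_endo h sq
  exact (app_of_isAffineOpen sq (fun g => (σ g).left) (fun g => (γ g).left)
    (fun g => congrArg CommaMorphism.left (h.invariant g)) (fun g => congrArg CommaMorphism.left (hγx g))
    (fun g => congrArg CommaMorphism.left (hγk g)) h.injective h.fixed hV (fun g => by
      rw [← Scheme.Hom.comp_preimage, ← Over.comp_left, hγk])).1

theorem invariant_mem_range (h : IsInvQuot q σ) {E XE : Over S} {e : E ⟶ T} [Flat e.left] {x : XE ⟶ X}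
    {k : XE ⟶ E} (sq : IsPullback x.left k.left q.left e.left) (γ : ι → (XE ⟶ XE))
    (hγx : ∀ g, γ g ≫ x = x ≫ σ g) (hγk : ∀ g, γ g ≫ k = k) :
    Function.Injective k.left.appTop ∧
      ∀ s, (∀ g, (γ g).left.appTop s = s) → s ∈ Set.range k.left.appTop := by
  haveI := h.affine_source
  haveI := h.affine_target
  exact appTop_invariants sq (fun g => (σ g).left) (fun g => (γ g).left)
    (fun g => congrArg CommaMorphism.left (h.invariant g)) (fun g => congrArg CommaMorphism.left (hγx g))
    (fun g => congrArg CommaMorphism.left (hγk g)) h.injective h.fixed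

/-- Flat affine base change. -/
theorem IsInvQuot.baseChange (h : IsInvQuot q σ) {E XE : Over S} {e : E ⟶ T} [Flat e.left] [IsAffine E.left]
    {x : XE ⟶ X} {k : XE ⟶ E} (sq : IsPullback x.left k.left q.left e.left) (γ : ι → (XE ⟶ XE))
    (hγx : ∀ g, γ g ≫ x = x ≫ σ g) (hγk : ∀ g, γ g ≫ k = k) : IsInvQuot k γ := by
  haveI := h.affine_source
  haveI := h.affine_target
  haveI := h.integral
  haveI := h.surjective
  haveI : IsIntegralHom k.left := MorphismProperty.of_isPullback (P := @IsIntegralHom) sq inferInstance
  haveI : IsAffine XE.left := isAffine_of_isAffineHom k.left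
  obtain ⟨h1, h2⟩ := invariant_mem_range h sq γ hγx hγk
  refine ⟨inferInstance, inferInstance, inferInstance, MorphismProperty.of_isPullback (P := @Surjective) sq inferInstance,
    hγk, h1, h2, fun K _ _ t a a' ha => ?_⟩
  have hxq : x ≫ q = k ≫ e := Over.OverMorphism.ext sq.w
  obtain ⟨g, hg⟩ := h.orbit K t (a ≫ x) (a' ≫ x) (by rw [Category.assoc, Category.assoc, hxq, reassoc_of% ha])
  refine ⟨g, Over.OverMorphism.ext (sq.hom_ext ?_ ?_)⟩
  · have e1 : a' ≫ x = (a ≫ γ g) ≫ x := by rw [hg, Category.assoc, Category.assoc, hγx]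
    exact congrArg CommaMorphism.left e1
  · have e1 : a' ≫ k = (a ≫ γ g) ≫ k := by rw [Category.assoc, hγk, ← ha]
    exact congrArg CommaMorphism.left e1

/-- Maps to an algebraic space are determined after flat base change of the quotient map. -/
theorem hom_ext_of_flat (h : IsInvQuot q σ) {N : Sp S} (hN : IsAlgSpace N) {E XE : Over S} {e : E ⟶ T}
    [Flat e.left] {x : XE ⟶ X} {k : XE ⟶ E} (sq : IsPullback x.left k.left q.left e.left)
    {a b : (yon S).obj E ⟶ N} (hab : (yon S).map k ≫ a = (yon S).map k ≫ b) : a = b := by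
  haveI := h.integral
  haveI := h.surjective
  haveI : IsIntegralHom k.left := MorphismProperty.of_isPullback (P := @IsIntegralHom) sq inferInstance
  haveI : Surjective k.left := MorphismProperty.of_isPullback (P := @Surjective) sq inferInstance
  have hd := hN.diag
  let j := hd.snd (prod.lift a b)
  let l := hd.lift (g := prod.lift a b) ((yon S).map k ≫ a) k (by
    apply Limits.prod.hom_ext
    · simp
    · simp [hab])
  have hl : l ≫ j = k := hd.lift_snd _ _ _
  haveI : Mono (Limits.diag N) :=
    ⟨fun a b h => by simpa [prod.lift_fst] using congrArg (· ≫ prod.fst) h⟩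
  haveI : Mono j.left := Groth.Agent.AlgSpLib.repWith_monomorphisms_of_mono hd |>.property_snd (prod.lift a b)
  haveI : LocallyOfFiniteType j.left := (Groth.Agent.AlgSpLib.repWith_diag_lft hN).property_snd (prod.lift a b)
  have hl' : l.left ≫ j.left = k.left := congrArg CommaMorphism.left hl
  haveI : Surjective j.left := ⟨fun y => by
    obtain ⟨p, rfl⟩ := k.left.surjective y
    exact ⟨l.left p, congrArg (fun φ => φ p) hl'⟩⟩
  haveI : Surjective l.left := ⟨fun z => by
    obtain ⟨p, hp⟩ := k.left.surjective (j.left z)
    exact ⟨p, j.left.injective ((congrArg (fun φ => φ p) hl').trans hp)⟩⟩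
  haveI : UniversallyClosed (l.left ≫ j.left) := hl' ▸ inferInstance
  haveI : UniversallyClosed j.left := UniversallyClosed.of_comp_surjective l.left j.left
  haveI : IsClosedImmersion j.left := (IsClosedImmersion.iff_isProper_and_mono j.left).2 ⟨⟨⟩, inferInstance⟩
  haveI : IsIso j.left := by
    refine IsClosedImmersion.isIso_iff_ker_eq_bot.2 (le_bot_iff.1 ((l.left.le_ker_comp j.left).trans (le_of_eq ?_)))
    rw [hl']
    refine Scheme.IdealSheafData.ext (funext fun V => ?_)
    rw [Scheme.Hom.ker_apply, (RingHom.injective_iff_ker_eq_bot _).1 (app_injective h sq V.2)]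
    rfl
  haveI : IsIso ((Over.forget S).map j) := inferInstanceAs (IsIso j.left)
  haveI : IsIso j := isIso_of_reflects_iso j (Over.forget S)
  have hw := (hd.isPullback (prod.lift a b)).w
  have h1 : hd.fst (prod.lift a b) = (yon S).map j ≫ a := by
    simpa [prod.lift_fst] using congrArg (· ≫ prod.fst) hw
  have h2 : hd.fst (prod.lift a b) = (yon S).map j ≫ b := by
    simpa [prod.lift_snd] using congrArg (· ≫ prod.snd) hw
  exact (cancel_epi ((yon S).map j)).1 (h1.symm.trans h2)

end Groth.Agent.ConstAct19
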