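import Mathlib.AlgebraicGeometry.Morphisms.Flat
import Mathlib.Algebra.Category.Ring.Constructions
import Mathlib.RingTheory.Flat.Equalizer

/-!
# Invariant functions and flat base change

For a finite family of endomorphisms `σ g` of an affine scheme `X` over an affine scheme `T` whose common fixed functions
are the functions on `T`, the functions on `X ×_T E` fixed by all `σ g` are the functions on `E` for every flat `E ⟶ T`.
-/

set_option autoImplicit false
set_option backward.isDefEq.respectTransparency false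
set_option backward.isDefEq.respectTransparency.types false

universe u v

open CategoryTheory CategoryTheory.Limits AlgebraicGeometry Opposite TopologicalSpace TensorProduct

namespace Groth.Agent.ConstAct19

/-- Common fixed points of finitely many endomorphisms commute with flat tensor products. -/
theorem existsUnique_one_tmul {ι : Type v} [Fintype ι] {C A B : Type u} [CommRing C] [CommRing A] [CommRing B]
    [Algebra C A] [Algebra C B] [Module.Flat C B] (σ : ι → A →ₐ[C] A) (hinj : Function.Injective (algebraMap C A))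
    (hfix : ∀ a, (∀ g, σ g a = a) → a ∈ Set.range (algebraMap C A)) :
    Function.Injective (fun b : B => (1 : A) ⊗ₜ[C] b) ∧
      ∀ z : A ⊗[C] B, (∀ g, (σ g).toLinearMap.rTensor B z = z) → ∃ b : B, (1 : A) ⊗ₜ[C] b = z := by
  classical
  let i : C →ₗ[C] A := Algebra.linearMap C A
  let f : A →ₗ[C] (ι → A) := LinearMap.pi fun g => (σ g).toLinearMap - LinearMap.id
  have hex : Function.Exact i f := fun a =>
    ⟨fun h => hfix a fun g => sub_eq_zero.1 (congrFun h g), by
      rintro ⟨c, rfl⟩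
      funext g
      exact sub_eq_zero.2 ((σ g).commutes c)⟩
  have hex' := Module.Flat.rTensor_exact B hex
  have hinj' : Function.Injective (i.rTensor B) := Module.Flat.rTensor_preserves_injective_linearMap i hinj
  have hi : ∀ b : B, i.rTensor B ((TensorProduct.lid C B).symm b) = (1 : A) ⊗ₜ[C] b := fun b => by
    simp [i]
  refine ⟨fun b b' e => (TensorProduct.lid C B).symm.injective (hinj' (by rw [hi, hi]; exact e)),
    fun z hz => ?_⟩
  have h0 : f.rTensor B z = 0 := by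
    have e : ∑ g, (LinearMap.single C (fun _ : ι => A) g).comp (LinearMap.proj g) = LinearMap.id := by
      refine LinearMap.ext fun x => funext fun j => ?_
      simp [LinearMap.sum_apply, Pi.single_apply]
    rw [show f = (∑ g, (LinearMap.single C (fun _ : ι => A) g).comp (LinearMap.proj g)).comp f by
      rw [e, LinearMap.id_comp]]
    rw [LinearMap.rTensor_comp, LinearMap.comp_apply, ← LinearMap.coe_rTensorHom, map_sum, LinearMap.sum_apply]
    refine Finset.sum_eq_zero fun g _ => ?_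
    rw [LinearMap.coe_rTensorHom, LinearMap.rTensor_comp, LinearMap.comp_apply, ← LinearMap.comp_apply ((LinearMap.proj g).rTensor B),
      ← LinearMap.rTensor_comp,
      show (LinearMap.proj g).comp f = (σ g).toLinearMap - LinearMap.id from LinearMap.proj_pi _ g,
      LinearMap.rTensor_sub, LinearMap.sub_apply, LinearMap.rTensor_id, LinearMap.id_apply, hz g, sub_self, map_zero]
  obtain ⟨w, rfl⟩ := (hex' z).1 h0
  exact ⟨TensorProduct.lid C B w, by rw [← hi, LinearEquiv.symm_apply_apply]⟩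

/-- The same for a cocartesian square of rings. -/
theorem existsUnique_of_isPushout {ι : Type v} [Fintype ι] {C A B P : CommRingCat.{u}} {a : C ⟶ A} {b : C ⟶ B}
    {l : A ⟶ P} {r : B ⟶ P} (H : IsPushout a b l r) (hb : b.hom.Flat) (σ : ι → (A ⟶ A)) (γ : ι → (P ⟶ P))
    (hσ : ∀ g, a ≫ σ g = a) (hl : ∀ g, l ≫ γ g = σ g ≫ l) (hr : ∀ g, r ≫ γ g = r)
    (hinj : Function.Injective a) (hfix : ∀ x, (∀ g, σ g x = x) → x ∈ Set.range a) :
    Function.Injective r ∧ ∀ z, (∀ g, γ g z = z) → z ∈ Set.range r := by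
  obtain ⟨C⟩ := C
  obtain ⟨A⟩ := A
  obtain ⟨B⟩ := B
  obtain ⟨P⟩ := P
  letI := a.hom.toAlgebra
  letI := b.hom.toAlgebra
  haveI : Module.Flat C B := hb
  letI := l.hom.toAlgebra
  letI := r.hom.toAlgebra
  letI := (a ≫ l).hom.toAlgebra
  haveI : IsScalarTower C A P := .of_algebraMap_eq' rfl
  haveI : IsScalarTower C B P := .of_algebraMap_eq' (congrArg CommRingCat.Hom.hom H.w)
  have hpo : Algebra.IsPushout C A B P := CommRingCat.isPushout_iff_isPushout.1 H
  let σ' : ι → A →ₐ[C] A := fun g => ⟨(σ g).hom, fun c => congrArg (fun φ => φ c) (hσ g)⟩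
  obtain ⟨h1, h2⟩ := existsUnique_one_tmul (B := B) σ' hinj hfix
  let e : A ⊗[C] B ≃ₐ[A] P := Algebra.IsPushout.equiv C A B P
  have he : ∀ x y, e (x ⊗ₜ y) = l x * r y := fun x y => Algebra.IsPushout.equiv_tmul ..
  have her : ∀ y, r y = e (1 ⊗ₜ y) := fun y => by rw [he, map_one, one_mul]
  refine ⟨fun y y' h => h1 (e.injective (by rw [← her, ← her]; exact h)), fun z hz => ?_⟩
  have hcomp : ∀ g w, γ g (e w) = e ((σ' g).toLinearMap.rTensor B w) := fun g w => by
    induction w using TensorProduct.induction_on with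
    | zero => simp
    | add w w' hw hw' => simp only [map_add, hw, hw']
    | tmul x y =>
      rw [LinearMap.rTensor_tmul, he, he, map_mul]
      exact congrArg₂ (· * ·) (congrArg (fun φ => φ x) (hl g)) (congrArg (fun φ => φ y) (hr g))
  obtain ⟨w, rfl⟩ := e.surjective z
  obtain ⟨y, hy⟩ := h2 w fun g => e.injective (by rw [← hcomp, hz g])
  exact ⟨y, by rw [her, hy]⟩

variable {ι : Type v} [Fintype ι] {X T XE E : Scheme.{u}} [IsAffine X] [IsAffine T] {q : X ⟶ T} {e : E ⟶ T}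
  {x : XE ⟶ X} {k : XE ⟶ E}

/-- On every affine open of `E`. -/
theorem app_of_isAffineOpen (sq : IsPullback x k q e) [Flat e] (σ : ι → (X ⟶ X)) (γ : ι → (XE ⟶ XE))
    (hσ : ∀ g, σ g ≫ q = q) (hγx : ∀ g, γ g ≫ x = x ≫ σ g) (hγk : ∀ g, γ g ≫ k = k)
    (hinj : Function.Injective q.appTop)
    (hfix : ∀ a, (∀ g, (σ g).appTop a = a) → a ∈ Set.range q.appTop) {V : E.Opens} (hV : IsAffineOpen V)
    (hle : ∀ g, k ⁻¹ᵁ V ≤ γ g ⁻¹ᵁ (k ⁻¹ᵁ V)) :
    Function.Injective (k.app V) ∧
      ∀ z, (∀ g, (γ g).appLE (k ⁻¹ᵁ V) (k ⁻¹ᵁ V) (hle g) z = z) → z ∈ Set.range (k.app V) := by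
  have hXT : (⊤ : X.Opens) ≤ q ⁻¹ᵁ ⊤ := le_rfl
  have hVT : V ≤ e ⁻¹ᵁ ⊤ := le_top
  have hY : k ⁻¹ᵁ V = x ⁻¹ᵁ ⊤ ⊓ k ⁻¹ᵁ V := by simp
  have H := (isIso_pushoutSection_iff sq (hUST := hVT) (hUSX := hXT) (hUY := hY)).1
    (isIso_pushoutSection_of_isAffineOpen sq hVT hXT hY (isAffineOpen_top T) hV (isAffineOpen_top X))
  rw [k.app_eq_appLE]
  refine existsUnique_of_isPushout H (e.flat_appLE (isAffineOpen_top T) hV _)
    (fun g => (σ g).appLE ⊤ ⊤ le_rfl) (fun g => (γ g).appLE _ _ (hle g)) (fun g => ?_) (fun g => ?_) (fun g => ?_)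
    ?_ ?_
  · rw [Scheme.Hom.appLE_comp_appLE]
    simp only [hσ]
  · rw [Scheme.Hom.appLE_comp_appLE, Scheme.Hom.appLE_comp_appLE]
    simp only [hγx]
  · rw [Scheme.Hom.appLE_comp_appLE]
    simp only [hγk]
  · rw [show q.appLE ⊤ ⊤ _ = q.appTop from q.appLE_eq_app]
    exact hinj
  · intro a ha
    rw [show q.appLE ⊤ ⊤ _ = q.appTop from q.appLE_eq_app]
    exact hfix a fun g => (congrArg (fun φ => φ a) (σ g).appLE_eq_app).symm.trans (ha g)

/-- Invariant functions on `X ×_T E` are the functions on `E`. -/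
theorem appTop_invariants (sq : IsPullback x k q e) [Flat e] (σ : ι → (X ⟶ X)) (γ : ι → (XE ⟶ XE))
    (hσ : ∀ g, σ g ≫ q = q) (hγx : ∀ g, γ g ≫ x = x ≫ σ g) (hγk : ∀ g, γ g ≫ k = k)
    (hinj : Function.Injective q.appTop)
    (hfix : ∀ a, (∀ g, (σ g).appTop a = a) → a ∈ Set.range q.appTop) :
    Function.Injective k.appTop ∧
      ∀ s : Γ(XE, ⊤), (∀ g, (γ g).appTop s = s) → s ∈ Set.range k.appTop := by
  have hle : ∀ (V : E.Opens) g, k ⁻¹ᵁ V ≤ γ g ⁻¹ᵁ (k ⁻¹ᵁ V) := fun V g => by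
    rw [← Scheme.Hom.comp_preimage, hγk]
  have aff := fun (V : E.Opens) (hV : IsAffineOpen V) =>
    app_of_isAffineOpen sq σ γ hσ hγx hγk hinj hfix hV (hle V)
  have inj : ∀ (W : E.Opens), Function.Injective (k.app W) := by
    intro W a b hab
    refine TopCat.Sheaf.eq_of_locally_eq' E.sheaf (fun V : {V : E.affineOpens // V.1 ≤ W} => V.1.1) W
      (fun V => homOfLE V.2) ?_ a b fun V => (aff _ V.1.2).1 ?_
    · intro p hp
      obtain ⟨V, hV, hpV, hVW⟩ := Opens.isBasis_iff_nbhd.1 E.isBasis_affineOpens hp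
      exact Opens.mem_iSup.2 ⟨⟨⟨V, hV⟩, hVW⟩, hpV⟩
    · show (E.presheaf.map (homOfLE V.2).op ≫ k.app V.1.1) a = (E.presheaf.map (homOfLE V.2).op ≫ k.app V.1.1) b
      rw [k.naturality, CommRingCat.comp_apply, CommRingCat.comp_apply, hab]
  refine ⟨inj ⊤, fun s hs => ?_⟩
  have hloc : ∀ V : E.affineOpens, ∃ r, k.app V.1 r = XE.presheaf.map (homOfLE le_top).op s := fun V =>
    (aff _ V.2).2 _ fun g => by
      have e1 : XE.presheaf.map (homOfLE le_top).op ≫ (γ g).appLE _ _ (hle V.1 g) =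
          (γ g).appTop ≫ XE.presheaf.map (homOfLE (le_top : k ⁻¹ᵁ V.1 ≤ ⊤)).op := by
        rw [Scheme.Hom.map_appLE]
        rfl
      rw [← CommRingCat.comp_apply, e1, CommRingCat.comp_apply, hs g]
  choose r hr using hloc
  have hcompat : TopCat.Presheaf.IsCompatible E.presheaf (fun V : E.affineOpens => V.1) r := by
    intro V W
    apply inj
    show (E.presheaf.map (Opens.infLELeft V.1 W.1).op ≫ k.app _) (r V) =
      (E.presheaf.map (Opens.infLERight V.1 W.1).op ≫ k.app _) (r W)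
    rw [k.naturality, k.naturality, CommRingCat.comp_apply, CommRingCat.comp_apply, hr, hr,
      ← CommRingCat.comp_apply, ← CommRingCat.comp_apply, ← Functor.map_comp, ← Functor.map_comp]
    rfl
  have hcov : (⊤ : E.Opens) ≤ iSup fun V : E.affineOpens => V.1 := by
    intro p _
    obtain ⟨V, hV, hpV, -⟩ := Opens.isBasis_iff_nbhd.1 E.isBasis_affineOpens (Opens.mem_top p)
    exact Opens.mem_iSup.2 ⟨⟨V, hV⟩, hpV⟩
  obtain ⟨t, ht, -⟩ := TopCat.Sheaf.existsUnique_gluing' E.sheaf (fun V : E.affineOpens => V.1) ⊤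
    (fun _ => homOfLE le_top) hcov r hcompat
  refine ⟨t, TopCat.Sheaf.eq_of_locally_eq' XE.sheaf (fun V : E.affineOpens => k ⁻¹ᵁ V.1) (k ⁻¹ᵁ ⊤)
    (fun _ => homOfLE le_top) (fun p _ => ?_) _ _ fun V => ?_⟩
  · obtain ⟨V, hV⟩ := Opens.mem_iSup.1 (hcov (Opens.mem_top (k p)))
    exact Opens.mem_iSup.2 ⟨V, hV⟩
  · show (k.app ⊤ ≫ XE.presheaf.map _) t = XE.presheaf.map (homOfLE le_top).op s
    rw [← hr V, ← ht V]
    show _ = (E.presheaf.map (homOfLE (le_top : V.1 ≤ ⊤)).op ≫ k.app V.1) t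
    rw [k.naturality]
    rfl

end Groth.Agent.ConstAct19
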