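import Groth.Agent.ConstAct19.Invariants
import Groth.Agent.Stk19b.Quot.Atlas
import Groth.Agent.Stk19b.QuotTriv
import Groth.Agent.AlgSpLib.ElemBranches
import Groth.Agent.AlgSpLib.AffineDescent
import Groth.Prelude.Def_ConstAct2
import Groth.Prelude.Def_StMod2

/-! The structure sheaf of `Spec A^G` is the pushforward of the structure sheaf of `[Spec A/G]`. -/

set_option autoImplicit false
set_option linter.style.haveILetI false
set_option backward.isDefEq.respectTransparency false
set_option backward.isDefEq.respectTransparency.types false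

universe u

open CategoryTheory CategoryTheory.Limits AlgebraicGeometry MonoidalCategory CartesianMonoidalCategory MonObj Opposite
open Groth.Agent.Stk19 Groth.Agent.Stk19b Groth.Agent.Stk19b.QuotTriv

namespace Groth.Agent.ConstAct19

variable {R : Type u} [CommRing R] {A : Type u} [CommRing A] [Algebra R A]
  {G : Type u} [Group G] [MulSemiringAction G A] [SMulCommClass G R A]

theorem quot_appTop_injective : Function.Injective (ConstAct.quot R A G).left.appTop := by
  intro a b e
  have hn := Scheme.ΓSpecIso_naturality (CommRingCat.ofHom (ConstAct.inv R A G).val.toRingHom)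
  have := congrArg (Scheme.ΓSpecIso (CommRingCat.of A)).hom e
  have key : ∀ c, (Scheme.ΓSpecIso (CommRingCat.of A)).hom ((ConstAct.quot R A G).left.appTop c) =
      ((Scheme.ΓSpecIso (CommRingCat.of (ConstAct.inv R A G))).hom c : ConstAct.inv R A G).1 := fun c =>
    congrArg (fun φ => φ c) hn
  rw [key, key] at this
  exact (Scheme.ΓSpecIso (CommRingCat.of (ConstAct.inv R A G))).commRingCatIsoToRingEquiv.injective
    (Subtype.ext this)

theorem quot_appTop_fixed (a : Γ((ConstAct.specA R A).left, ⊤))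
    (ha : ∀ g : G, (ConstAct.act R A G g).left.appTop a = a) : a ∈ Set.range (ConstAct.quot R A G).left.appTop := by
  let eA := Scheme.ΓSpecIso (CommRingCat.of A)
  let eC := Scheme.ΓSpecIso (CommRingCat.of (ConstAct.inv R A G))
  have hm : ∀ g : G, g • (eA.hom a : A) = eA.hom a := fun g =>
    (congrArg (fun φ => φ a) (Scheme.ΓSpecIso_naturality
      (CommRingCat.ofHom (MulSemiringAction.toRingHom G A g)))).symm.trans (congrArg eA.hom (ha g))
  refine ⟨eC.inv (⟨eA.hom a, hm⟩ : ConstAct.inv R A G), ?_⟩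
  apply eA.commRingCatIsoToRingEquiv.injective
  show eA.hom ((ConstAct.quot R A G).left.appTop _) = eA.hom a
  have key : ∀ c, eA.hom ((ConstAct.quot R A G).left.appTop c) = (eC.hom c : ConstAct.inv R A G).1 := fun c =>
    congrArg (fun φ => φ c) (Scheme.ΓSpecIso_naturality (CommRingCat.ofHom (ConstAct.inv R A G).val.toRingHom))
  rw [key]
  rw [← CommRingCat.comp_apply, eC.inv_hom_id]
  rfl

variable [Fintype G] [DecidableEq G]

theorem gr_flat : Flat (ConstAct.GR R G).hom := by
  haveI : Module.Flat R (ConstGrp.F R G) := inferInstanceAs (Module.Flat R (G → R))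
  exact (HasRingHomProperty.Spec_iff (P := @Flat)).mpr (RingHom.flat_algebraMap_iff.mpr inferInstance)

theorem exists_moves (g₀ : G) {W : Over (Spec (CommRingCat.of R))} (x : W ⟶ ConstAct.X R A) :
    ∃ g : W ⟶ ConstAct.GR R G, smulPt (ConstAct.gaction R A G) g x = x ≫ ConstAct.act R A G g₀⁻¹ := by
  refine ⟨x ≫ CoactBr.pt (ConstAct.constPt R G g₀), ?_⟩
  have hid : CoactBr.pt (AlgHom.id R A) = 𝟙 (ConstAct.X R A) := by
    apply Over.OverMorphism.ext
    exact Spec.map_id _
  have e := ConstAct.gaction_constPt R A G g₀ (AlgHom.id R A)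
  rw [hid] at e
  refine Eq.trans ?_ (congrArg (x ≫ ·) (e.trans (Category.id_comp _)))
  show lift _ x ≫ _ = x ≫ _
  rw [comp_lift_assoc, Category.comp_id]

variable (π : ConstAct.quotSt R A G Scheme.fppfPrecoverage ⥤ᵇ AlgSt.ofSch (ConstAct.specInv R A G))

theorem base_comp (ξ : (ConstAct.quotSt R A G Scheme.fppfPrecoverage).obj)
    {ob : (AlgSt.ofSch (ConstAct.specInv R A G)).obj} (α : π.obj ξ ⟶ ob) :
    StMod.baseOver π ξ α = eqToHom (π.w_obj ξ).symm ≫ α.hom := rfl

theorem unitIsIso
    (hπ : BasedFunctor.comp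
        (AlgSt.quotMap Scheme.fppfPrecoverage (ConstAct.GR R G) (ConstAct.gaction R A G)) π =
      AlgSt.ofSpMap ((AlgSp.yon (Spec (CommRingCat.of R))).map (ConstAct.quot R A G))) :
    StMod.UnitIsIso π := by
  intro E
  haveI := Quot.hasIsos_fppf.{u}
  let ob := StMod.etaOf E
  let e : E.obj.left ⟶ ConstAct.specInv R A G := ob.sec.down
  haveI : Etale e.left := by
    have h1 : (AlgSp.yon (Spec (CommRingCat.of R))).map e = E.obj.hom :=
      ((AlgSp.J _).uliftYonedaEquiv).injective (by
        rw [GrothendieckTopology.uliftYonedaEquiv_uliftYoneda_map]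
        rfl)
    exact (AlgSp.repWith_yon_map_iff (P := @Etale) e).1 (h1 ▸ E.property)
  let q := ConstAct.quot R A G
  let XE : Over (Spec (CommRingCat.of R)) := Over.mk (pullback.fst q.left e.left ≫ (ConstAct.X R A).hom)
  let x : XE ⟶ ConstAct.X R A := Over.homMk (pullback.fst q.left e.left) rfl
  let k : XE ⟶ E.obj.left := Over.homMk (pullback.snd q.left e.left) (by
    show pullback.snd q.left e.left ≫ E.obj.left.hom = pullback.fst q.left e.left ≫ (ConstAct.X R A).hom
    rw [← Over.w e, ← pullback.condition_assoc]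
    exact congrArg (_ ≫ ·) (Over.w q))
  have hxk : x ≫ q = k ≫ e := Over.OverMorphism.ext pullback.condition
  -- the sections over trivial objects
  have htriv : ∀ {W : Over (Spec (CommRingCat.of R))} (y : W ⟶ ConstAct.X R A),
      π.obj (triv Scheme.fppfPrecoverage (ConstAct.gaction R A G) y) = ⟨W, ⟨y ≫ q⟩⟩ := fun {W} y =>
    congrArg (fun F => F.obj ((AlgSt.ofOverCat (ConstAct.X R A)).obj (Over.mk y))) (congrArg BasedFunctor.toFunctor hπ)
  have hα : ∀ {W : Over (Spec (CommRingCat.of R))} (y : W ⟶ ConstAct.X R A) (l : W ⟶ E.obj.left), y ≫ q = l ≫ e →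
      ∃ α : π.obj (triv Scheme.fppfPrecoverage (ConstAct.gaction R A G) y) ⟶ ob,
        StMod.baseOver π (triv Scheme.fppfPrecoverage (ConstAct.gaction R A G) y) α = l := by
    intro W y l hl
    refine ⟨eqToHom (htriv y) ≫ (⟨l, congrArg ULift.up hl.symm⟩ : (⟨W, ⟨y ≫ q⟩⟩ : (AlgSt.ofSch (ConstAct.specInv R A G)).obj) ⟶ ob), ?_⟩
    rw [base_comp]
    show _ ≫ (Stk.EltObj.forget _).map (_ ≫ _) = _
    rw [Functor.map_comp, eqToHom_map, eqToHom_trans_assoc, eqToHom_refl, Category.id_comp]
    rfl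
  have hβ : ∀ {W : Over (Spec (CommRingCat.of R))} (y : W ⟶ ConstAct.X R A)
      (α : π.obj (triv Scheme.fppfPrecoverage (ConstAct.gaction R A G) y) ⟶ ob),
      y ≫ q = StMod.baseOver π (triv Scheme.fppfPrecoverage (ConstAct.gaction R A G) y) α ≫ e := by
    intro W y α
    let α' : (⟨W, ⟨y ≫ q⟩⟩ : (AlgSt.ofSch (ConstAct.specInv R A G)).obj) ⟶ ob := eqToHom (htriv y).symm ≫ α
    have e1 : α'.hom ≫ e = y ≫ q := congrArg ULift.down α'.map_sec
    have e2 : α'.hom = StMod.baseOver π (triv Scheme.fppfPrecoverage (ConstAct.gaction R A G) y) α := by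
      rw [base_comp]
      show (Stk.EltObj.forget _).map (_ ≫ _) = _
      rw [Functor.map_comp, eqToHom_map]
      rfl
    rw [← e2, e1]
  have hext : ∀ {ξ : (ConstAct.quotSt R A G Scheme.fppfPrecoverage).obj} {α α' : π.obj ξ ⟶ ob},
      StMod.baseOver π ξ α = StMod.baseOver π ξ α' → α = α' := fun {ξ α α'} h =>
    Stk.EltObj.hom_ext ((cancel_epi (eqToHom (π.w_obj ξ).symm)).1 h)
  obtain ⟨α₀, hα₀⟩ := hα x k hxk
  haveI : IsAffine (ConstAct.specA R A).left := inferInstanceAs (IsAffine (Spec _))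
  haveI : IsAffine (ConstAct.specInv R A G).left := inferInstanceAs (IsAffine (Spec _))
  -- the automorphisms of `Spec A ×_T E`
  have hgm : ∀ g : G, ∃ gm : XE ⟶ XE, gm ≫ x = x ≫ ConstAct.act R A G g ∧ gm ≫ k = k := by
    intro g
    have hc : ((x ≫ ConstAct.act R A G g).left) ≫ q.left = k.left ≫ e.left := by
      rw [← Over.comp_left, Category.assoc, ConstAct.act_quot, hxk]
      rfl
    refine ⟨Over.homMk (pullback.lift (x ≫ ConstAct.act R A G g).left k.left hc) ?_, ?_, ?_⟩
    · show _ ≫ pullback.fst q.left e.left ≫ (ConstAct.X R A).hom = _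
      rw [pullback.lift_fst_assoc]
      exact Over.w (x ≫ ConstAct.act R A G g)
    · exact Over.OverMorphism.ext (pullback.lift_fst _ _ _)
    · exact Over.OverMorphism.ext (pullback.lift_snd _ _ _)
  choose gm hgmx hgmk using hgm
  obtain ⟨hinj, hrange⟩ := appTop_invariants (IsPullback.of_hasPullback q.left e.left)
    (fun g => (ConstAct.act R A G g).left) (fun g => (gm g).left)
    (fun g => congrArg CommaMorphism.left (ConstAct.act_quot R A G g))
    (fun g => congrArg CommaMorphism.left (hgmx g)) (fun g => congrArg CommaMorphism.left (hgmk g))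
    quot_appTop_injective quot_appTop_fixed
  refine ⟨fun r r' h => hinj ?_, fun s => ?_⟩
  · have := congrArg (fun t => t.1 (triv Scheme.fppfPrecoverage (ConstAct.gaction R A G) x) α₀) h
    simp only [StMod.unitSect_val, hα₀] at this
    exact this
  let s₀ : Γ(XE.left, ⊤) := s.1 (triv Scheme.fppfPrecoverage (ConstAct.gaction R A G) x) α₀
  -- compatibility along morphisms into the universal trivial object
  have hmove : ∀ {ξ : (ConstAct.quotSt R A G Scheme.fppfPrecoverage).obj}
      (m : ξ ⟶ triv Scheme.fppfPrecoverage (ConstAct.gaction R A G) x) (α : π.obj ξ ⟶ ob),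
      StMod.baseOver π ξ α = m.base ≫ k → s.1 ξ α = m.base.left.appTop s₀ := by
    intro ξ m α h
    have e1 : α = π.map m ≫ α₀ := hext (by
      rw [h, ← StMod.map_comp_baseOver, hα₀]
      rfl)
    rw [e1, ← s.2 m α₀]
    rfl
  obtain ⟨r, hr⟩ := hrange s₀ (fun g => by
    obtain ⟨g', hg'⟩ := exists_moves g (x ≫ ConstAct.act R A G g)
    replace hg' : smulPt (ConstAct.gaction R A G) g' (x ≫ ConstAct.act R A G g) = x := hg'.trans (by
      rw [Category.assoc, ← ConstAct.act_mul, mul_inv_cancel, ConstAct.act_one]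
      exact Category.comp_id x)
    obtain ⟨m, hm, -⟩ := exists_hom_of_smul (K := Scheme.fppfPrecoverage) (aX := ConstAct.gaction R A G) x x (gm g) g'
      (by rw [hgmx, hg'])
    rw [show (gm g).left = m.base.left by rw [hm]]
    exact (hmove m α₀ (by rw [hα₀, hm, hgmk])).symm)
  refine ⟨r, StMod.Mod.RelSect.ext _ _ _ fun ξ α => ?_⟩
  rw [StMod.unitSect_val]
  obtain ⟨n, hn, -⟩ := exists_hom_of_point ξ (𝟙 ξ.P) ξ.π (Category.id_comp _) ξ.φ (Category.id_comp _)
  haveI := gr_flat (R := R) (G := G)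
  haveI : Flat ξ.π.left := Quot.π_prop Scheme.fppfPrecoverage_le_fpqcPrecoverage @Flat AlgSpLib.descends_flat
    inferInstance ξ
  haveI : Surjective ξ.π.left :=
    Quot.π_prop Scheme.fppfPrecoverage_le_fpqcPrecoverage @Surjective inferInstance Quot.surjective_hom ξ
  apply Groth.Agent.AlgSpLib.appTop_injective_of_flat_surjective ξ.π.left
  have hb : StMod.baseOver π _ (π.map n ≫ α) = ξ.π ≫ StMod.baseOver π ξ α := by
    rw [← StMod.map_comp_baseOver, ← hn]
    rfl
  have hP := hβ ξ.φ (π.map n ≫ α)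
  rw [hb] at hP
  let l : ξ.P ⟶ XE := Over.homMk (pullback.lift ξ.φ.left (ξ.π ≫ StMod.baseOver π ξ α).left
      (congrArg CommaMorphism.left hP)) (by
    show _ ≫ pullback.fst q.left e.left ≫ (ConstAct.X R A).hom = _
    rw [pullback.lift_fst_assoc]
    exact Over.w ξ.φ)
  have hlx : l ≫ x = ξ.φ := Over.OverMorphism.ext (pullback.lift_fst _ _ _)
  have hlk : l ≫ k = ξ.π ≫ StMod.baseOver π ξ α := Over.OverMorphism.ext (pullback.lift_snd _ _ _)
  obtain ⟨m, hm, -⟩ := exists_hom_of_smul (K := Scheme.fppfPrecoverage) (aX := ConstAct.gaction R A G) ξ.φ x l (toUnit ξ.P ≫ MonObj.one)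
    (by rw [hlx, ← Hom.one_def]; exact smulPt_one _ _)
  have h1 := hmove m (π.map n ≫ α) (by rw [hb, hm, hlk])
  have h2 : (ξ.π.left).appTop (s.1 ξ α) = s.1 _ (π.map n ≫ α) := by
    rw [← s.2 n α, ← hn]
    rfl
  rw [h2, h1, hm, ← hr]
  show (ξ.π ≫ StMod.baseOver π ξ α).left.appTop r = (l ≫ k).left.appTop r
  rw [hlk]
  rfl

end Groth.Agent.ConstAct19
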